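import Mathlib
import Cfsg.Prelude.Def_Blocks
import Cfsg.Agent.Lib.H23.Rational
import Cfsg.Agent.Lib.H23.BlockDefect
import Cfsg.Agent.Lib.H23.BlockCentralDefect
import Cfsg.Agent.Lib.H24.CharBasic

/-!
# No character of 2-defect zero in a group with the local data of `M22` (helper3)

Abstract arithmetic: a group of order `443520` with an element `r` of order 3 conjugate to its inverse,
centralized by a four-group `V`, lying in a subgroup `P` of order 9 all of whose nonidentity elements
are conjugate to `r`, and with `|C(r)| ≤ 72`, has no irreducible character `χ` with `2^7 ∥ χ(1)`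
vanishing on all `t * y` (`t` involution, `y` of odd order commuting with `t`).
-/

set_option autoImplicit false

namespace Cfsg.Agent.Lib.H3.OneBlk

open Cfsg Cfsg.Agent.Lib.H23 Cfsg.Agent.Lib.H24

theorem int_dvd_of_isIntegral_div {z : ℤ} {n : ℕ} (hn : n ≠ 0)
    (h : IsIntegral ℤ ((z : ℂ) / (n : ℂ))) : (n : ℤ) ∣ z := by
  have h3 : IsIntegral ℤ ((z : ℚ) / (n : ℚ)) := by
    rw [← isIntegral_algebraMap_iff (algebraMap ℚ ℂ).injective]
    convert h using 1
    simp
  obtain ⟨y, hy⟩ := IsIntegrallyClosed.isIntegral_iff.mp h3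
  simp only [algebraMap_int_eq, eq_intCast] at hy
  refine ⟨y, ?_⟩
  have hn' : (n : ℚ) ≠ 0 := Nat.cast_ne_zero.2 hn
  have : (z : ℚ) = (n : ℚ) * (y : ℚ) := by
    rw [hy]; field_simp
  exact_mod_cast this

theorem exists_int_of_rat_isIntegral {c : ℂ} (hc : IsIntegral ℤ c) (q : ℚ) (hq : c = (q : ℂ)) :
    ∃ z : ℤ, c = (z : ℂ) := by
  have h3 : IsIntegral ℤ q := by
    rw [← isIntegral_algebraMap_iff (algebraMap ℚ ℂ).injective]
    convert hc using 1
    rw [hq]; rfl
  obtain ⟨y, hy⟩ := IsIntegrallyClosed.isIntegral_iff.mp h3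
  simp only [algebraMap_int_eq, eq_intCast] at hy
  refine ⟨y, ?_⟩
  rw [hq, ← hy]
  simp

variable {G : Type*} [Group G] [Fintype G]

/-- The value at an element of order 3 conjugate to its inverse is a rational integer. -/
theorem exists_int_value_of_real_order_three (χ : IrrCharacter G) (r : G) (hr3 : orderOf r = 3)
    (hreal : IsConj r r⁻¹) : ∃ z : ℤ, (χ : G → ℂ) r = (z : ℂ) := by
  obtain ⟨n, ρ, hirr, hρ⟩ := χ.2
  have hcf := irr_isClassFunction χ
  have hinv : (χ : G → ℂ) r⁻¹ = (χ : G → ℂ) r := by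
    obtain ⟨k, hk⟩ := isConj_iff.1 hreal
    rw [← hk]
    exact hcf r k
  have h3 : 3 ∣ Nat.card G := hr3 ▸ orderOf_dvd_natCard r
  have key : ∀ m : ℕ, m.Coprime (Nat.card G) → ρ.character (r ^ m) = ρ.character r := by
    intro m hm
    rw [hρ]
    have hm3 : ¬ 3 ∣ m := by
      intro h
      have := Nat.dvd_gcd h h3
      rw [Nat.Coprime] at hm
      rw [hm] at this
      norm_num at this
    have hpow : r ^ m = r ^ (m % 3) := by
      rw [← hr3]; exact (pow_mod_orderOf r m).symm
    rw [hpow]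
    have : m % 3 = 1 ∨ m % 3 = 2 := by omega
    rcases this with h | h
    · rw [h, pow_one]
    · rw [h]
      have h3' : r ^ 3 = 1 := by rw [← hr3]; exact pow_orderOf_eq_one r
      have : r ^ 2 = r⁻¹ := by
        apply eq_inv_of_mul_eq_one_left
        rw [← pow_succ]; exact h3'
      rw [this, hinv]
  obtain ⟨q, hq⟩ := char_rational_of_forall_char_pow_eq ρ r key
  rw [hρ] at hq
  exact exists_int_of_rat_isIntegral (irr_isIntegral χ r) q hq

theorem no_defect_zero (hcard : Nat.card G = 443520) (χ : IrrCharacter G)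
    (hdeg : (charDegree (χ : G → ℂ)).factorization 2 = 7)
    (hvan : ∀ t y : G, orderOf t = 2 → Commute t y → ¬ 2 ∣ orderOf y → (χ : G → ℂ) (t * y) = 0)
    (r : G) (hr3 : orderOf r = 3) (hreal : IsConj r r⁻¹)
    (V : Subgroup G) (hV4 : Nat.card V = 4) (hVexp : ∀ v ∈ V, v * v = 1)
    (hVr : ∀ v ∈ V, Commute v r)
    (P : Subgroup G) (hP9 : Nat.card P = 9) (hPconj : ∀ x ∈ P, x ≠ 1 → IsConj r x)
    (hcent : Nat.card (Subgroup.centralizer ({r} : Set G)) ≤ 72) : False := by
  classical
  set f : G → ℂ := (χ : G → ℂ) with hf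
  have hcf := irr_isClassFunction χ
  have hchar : IsCharacter G f := Cfsg.Agent.Lib.L0.isCharacter_of_irr χ.2
  set d := charDegree f with hd
  have hf1 : f 1 = (d : ℂ) := (charDegree_irr χ).symm
  obtain ⟨z, hz⟩ := exists_int_value_of_real_order_three χ r hr3 hreal
  have hconjval : ∀ x : G, IsConj r x → f x = (z : ℂ) := by
    intro x hx
    obtain ⟨k, hk⟩ := isConj_iff.1 hx
    rw [← hk, ← hz]
    exact hcf r k
  -- Step B: 4 ∣ z
  have h4 : (4 : ℤ) ∣ z := by
    letI : Fintype V := Fintype.ofFinite V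
    have hint := isIntegral_average_char hchar V r (fun u hu => (hVr u hu).eq)
    have hsum : ∑ u : V, f (r * (u : G)) = (z : ℂ) := by
      rw [Finset.sum_eq_single (1 : V)]
      · show f (r * ((1 : V) : G)) = (z : ℂ)
        rw [Subgroup.coe_one, mul_one]; exact hz
      · intro u _ hu
        have hu1 : (u : G) ≠ 1 := fun h => hu (Subtype.ext h)
        have hu2 : orderOf (u : G) = 2 := by
          apply orderOf_eq_prime
          · rw [sq]; exact hVexp u u.2
          · exact hu1
        have hcomm := hVr u u.2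
        rw [← hcomm.eq]
        exact hvan u r hu2 hcomm (by rw [hr3]; norm_num)
      · intro h; exact absurd (Finset.mem_univ _) h
    rw [hsum, hV4] at hint
    have : IsIntegral ℤ ((z : ℂ) / ((4 : ℕ) : ℂ)) := by
      convert hint using 1
      rw [div_eq_inv_mul]
    exact_mod_cast int_dvd_of_isIntegral_div (by norm_num) this
  -- Step C: 9 ∣ d + 8 z
  have h9 : (9 : ℤ) ∣ (d : ℤ) + 8 * z := by
    letI : Fintype P := Fintype.ofFinite P
    have hint := isIntegral_average_char hchar P 1 (fun u _ => by rw [mul_one, one_mul])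
    have hcardP : (Finset.univ : Finset P).card = 9 := by
      rw [Finset.card_univ, ← Nat.card_eq_fintype_card, hP9]
    have hsum : ∑ u : P, f (1 * (u : G)) = ((d : ℤ) + 8 * z : ℤ) := by
      rw [← Finset.add_sum_erase Finset.univ _ (Finset.mem_univ (1 : P))]
      have h1 : ∀ u ∈ (Finset.univ : Finset P).erase 1, f (1 * (u : G)) = (z : ℂ) := by
        intro u hu
        rw [one_mul]
        apply hconjval
        apply hPconj u u.2
        intro h
        exact (Finset.ne_of_mem_erase hu) (Subtype.ext h)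
      rw [Finset.sum_congr rfl h1, Finset.sum_const, Finset.card_erase_of_mem (Finset.mem_univ _), hcardP]
      simp [hf1]
    rw [hsum, hP9] at hint
    have : IsIntegral ℤ ((((d : ℤ) + 8 * z : ℤ) : ℂ) / ((9 : ℕ) : ℂ)) := by
      convert hint using 1
      rw [div_eq_inv_mul]
    exact_mod_cast int_dvd_of_isIntegral_div (by norm_num) this
  -- Step D: the norm bound
  have hnorm : (d : ℤ) ^ 2 + 6160 * z ^ 2 ≤ 443520 := by
    have hsum := sum_normSq_irr χ
    rw [hcard] at hsum
    push_cast at hsum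
    set S : Finset G := Finset.univ.filter (fun g => IsConj r g) with hS
    have hr1 : r ≠ 1 := by
      intro h
      rw [h, orderOf_one] at hr3
      norm_num at hr3
    have h1S : (1 : G) ∉ S := by
      rw [hS, Finset.mem_filter]
      rintro ⟨_, h⟩
      exact hr1 (isConj_one_left.1 h)
    have hScard : 6160 ≤ S.card := by
      have h1 := index_centralizer_eq_card_conj r
      have h2 : Nat.card {h : G // IsConj r h} = S.card := by
        rw [hS, Nat.card_eq_fintype_card, Fintype.card_subtype]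
      rw [h2] at h1
      have h3 := Subgroup.card_mul_index (Subgroup.centralizer ({r} : Set G))
      rw [hcard, h1] at h3
      by_contra hlt
      rw [not_le] at hlt
      have : Nat.card (Subgroup.centralizer ({r} : Set G)) * S.card ≤ 72 * 6159 :=
        Nat.mul_le_mul hcent (by omega)
      omega
    have hle : Complex.normSq (f 1) + ∑ g ∈ S, Complex.normSq (f g) ≤ (443520 : ℝ) := by
      rw [← hsum]
      have e : Complex.normSq (f 1) + ∑ g ∈ S, Complex.normSq (f g) =
          ∑ g ∈ insert 1 S, Complex.normSq (f g) := (Finset.sum_insert (f := fun g => Complex.normSq (f g)) h1S).symm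
      rw [e]
      apply Finset.sum_le_sum_of_subset_of_nonneg (Finset.subset_univ _)
      intro g _ _
      exact Complex.normSq_nonneg _
    have hS2 : ∑ g ∈ S, Complex.normSq (f g) = (S.card : ℝ) * (z : ℝ) ^ 2 := by
      have : ∀ g ∈ S, Complex.normSq (f g) = (z : ℝ) ^ 2 := by
        intro g hg
        rw [hS, Finset.mem_filter] at hg
        rw [hconjval g hg.2]
        rw [show ((z : ℂ)) = ((z : ℝ) : ℂ) by push_cast; rfl, Complex.normSq_ofReal, sq]
      rw [Finset.sum_congr rfl this, Finset.sum_const, nsmul_eq_mul]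
    have hf1' : Complex.normSq (f 1) = (d : ℝ) ^ 2 := by
      rw [hf1, show ((d : ℂ)) = ((d : ℝ) : ℂ) by push_cast; rfl, Complex.normSq_ofReal, sq]
    rw [hS2, hf1'] at hle
    have hreal' : ((d : ℤ) ^ 2 + 6160 * z ^ 2 : ℤ) ≤ (d : ℤ) ^ 2 + (S.card : ℤ) * z ^ 2 := by
      have : (6160 : ℤ) ≤ (S.card : ℤ) := by exact_mod_cast hScard
      nlinarith [sq_nonneg z]
    have hle' : ((d : ℤ) ^ 2 + (S.card : ℤ) * z ^ 2 : ℤ) ≤ 443520 := by
      have : (((d : ℤ) ^ 2 + (S.card : ℤ) * z ^ 2 : ℤ) : ℝ) ≤ ((443520 : ℤ) : ℝ) := by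
        push_cast
        exact hle
      exact_mod_cast this
    exact le_trans hreal' hle'
  -- Step E: arithmetic
  have hd0 : d ≠ 0 := (charDegree_pos χ).ne'
  have h128 : 2 ^ 7 ∣ d := by
    rw [Nat.prime_two.pow_dvd_iff_le_factorization hd0, hdeg]
  have h256 : ¬ 2 ^ 8 ∣ d := by
    rw [Nat.prime_two.pow_dvd_iff_le_factorization hd0, hdeg]
    norm_num
  obtain ⟨k, hk⟩ := h128
  have hk5 : k ≤ 5 := by
    by_contra hlt
    rw [not_le] at hlt
    have : (768 : ℤ) ≤ (d : ℤ) := by
      have : 768 ≤ d := by rw [hk]; omega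
      exact_mod_cast this
    nlinarith [sq_nonneg z]
  have hkodd : k % 2 = 1 := by
    by_contra hne
    apply h256
    have : k % 2 = 0 := by omega
    obtain ⟨j, hj⟩ := Nat.dvd_of_mod_eq_zero this
    exact ⟨j, by rw [hk, hj]; ring⟩
  obtain ⟨a, ha⟩ := h4
  have hdk : (d : ℤ) = 128 * (k : ℤ) := by
    have : d = 128 * k := by rw [hk]; norm_num
    exact_mod_cast this
  have hk' : k = 1 ∨ k = 3 ∨ k = 5 := by omega
  rw [hdk, ha] at hnorm h9
  rcases hk' with rfl | rfl | rfl
  · have ha1 : -2 ≤ a ∧ a ≤ 2 := by constructor <;> nlinarith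
    obtain ⟨h1, h2⟩ := ha1
    interval_cases a <;> omega
  · have ha1 : -1 ≤ a ∧ a ≤ 1 := by constructor <;> nlinarith
    obtain ⟨h1, h2⟩ := ha1
    interval_cases a <;> omega
  · have ha1 : -0 ≤ a ∧ a ≤ 0 := by constructor <;> nlinarith
    obtain ⟨h1, h2⟩ := ha1
    interval_cases a <;> omega

end Cfsg.Agent.Lib.H3.OneBlk
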