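import Mathlib
import Cfsg.Prelude.Def_Sporadic_a
import Cfsg.Agent.Lib.H27.M24NF

/-!
# Finite subgroups of a permutation group on the Golay points given by lists of words (helper3)
-/

set_option autoImplicit false

namespace Cfsg.Agent.Lib.H3.OneBlk

open Cfsg Cfsg.Agent.Lib.H28 Cfsg.Agent.Lib.H27 Cfsg.Agent.Lib.H27.M24NF

/-- The permutations of the words of the list contain `1` and are closed under products and inverses. -/
def closedW (ws : List (List ℕ)) : Bool :=
  ws.any (fun c => eqW c []) &&
  ws.all (fun a => ws.all (fun b => ws.any (fun c => eqW (a ++ b) c))) &&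
  ws.all (fun a => ws.any (fun c => eqW (a ++ c) []))

/-- The permutations of the words of the list are pairwise distinct. -/
def distinctW (ws : List (List ℕ)) : Bool :=
  (List.range ws.length).all (fun i => (List.range ws.length).all (fun j =>
    i == j || !(eqW (ws.getD i []) (ws.getD j []))))

/-- The subgroup of `K` whose elements are the permutations of the words in `ws`. -/
def wordsSubgroup (K : Subgroup (Equiv.Perm GolayPt)) (ws : List (List ℕ))
    (h : closedW ws = true) : Subgroup ↥K where
  carrier := {g | ∃ w ∈ ws, (g : Equiv.Perm GolayPt) = wordPerm w}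
  mul_mem' := by
    rintro a b ⟨wa, hwa, ha⟩ ⟨wb, hwb, hb⟩
    unfold closedW at h
    rw [Bool.and_eq_true, Bool.and_eq_true] at h
    have h2 := List.all_eq_true.1 (List.all_eq_true.1 h.1.2 wa hwa) wb hwb
    obtain ⟨c, hc, hcw⟩ := List.any_eq_true.1 h2
    refine ⟨c, hc, ?_⟩
    rw [Subgroup.coe_mul, ha, hb, ← wordPerm_append]
    exact wordPerm_eq_of_eqW hcw
  one_mem' := by
    unfold closedW at h
    rw [Bool.and_eq_true, Bool.and_eq_true] at h
    obtain ⟨c, hc, hcw⟩ := List.any_eq_true.1 h.1.1
    refine ⟨c, hc, ?_⟩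
    rw [Subgroup.coe_one, wordPerm_eq_of_eqW hcw, wordPerm_nil]
  inv_mem' := by
    rintro a ⟨wa, hwa, ha⟩
    unfold closedW at h
    rw [Bool.and_eq_true, Bool.and_eq_true] at h
    have h2 := List.all_eq_true.1 h.2 wa hwa
    obtain ⟨c, hc, hcw⟩ := List.any_eq_true.1 h2
    refine ⟨c, hc, ?_⟩
    have h3 := wordPerm_eq_of_eqW hcw
    rw [wordPerm_append, wordPerm_nil] at h3
    rw [Subgroup.coe_inv, ha]
    exact inv_eq_of_mul_eq_one_right h3

theorem mem_wordsSubgroup {K : Subgroup (Equiv.Perm GolayPt)} {ws : List (List ℕ)}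
    {h : closedW ws = true} {g : ↥K} :
    g ∈ wordsSubgroup K ws h ↔ ∃ w ∈ ws, (g : Equiv.Perm GolayPt) = wordPerm w := Iff.rfl

theorem card_wordsSubgroup (K : Subgroup (Equiv.Perm GolayPt)) (ws : List (List ℕ))
    (h : closedW ws = true) (hK : ∀ w ∈ ws, wordPerm w ∈ K) (hd : distinctW ws = true) :
    Nat.card (wordsSubgroup K ws h) = ws.length := by
  have hget : ∀ i : Fin ws.length, ws.getD i.val [] ∈ ws := by
    intro i
    rw [List.getD_eq_getElem _ _ i.2]
    exact List.getElem_mem _
  let f : Fin ws.length → wordsSubgroup K ws h := fun i =>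
    ⟨⟨wordPerm (ws.getD i.val []), hK _ (hget i)⟩, ⟨_, hget i, rfl⟩⟩
  have hbij : Function.Bijective f := by
    constructor
    · intro i j hij
      have h1 : wordPerm (ws.getD i.val []) = wordPerm (ws.getD j.val []) := by
        have := congrArg (fun x : wordsSubgroup K ws h => ((x : ↥K) : Equiv.Perm GolayPt)) hij
        exact this
      have h2 := eqW_of_wordPerm_eq h1
      unfold distinctW at hd
      have h3 := List.all_eq_true.1 (List.all_eq_true.1 hd i.val (List.mem_range.2 i.2)) j.val
        (List.mem_range.2 j.2)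
      rw [Bool.or_eq_true, beq_iff_eq, h2] at h3
      rcases h3 with h3 | h3
      · exact Fin.ext h3
      · simp at h3
    · rintro ⟨g, w, hw, hg⟩
      obtain ⟨i, hi, rfl⟩ := List.getElem_of_mem hw
      refine ⟨⟨i, hi⟩, ?_⟩
      apply Subtype.ext
      apply Subtype.ext
      show wordPerm (ws.getD i []) = (g : Equiv.Perm GolayPt)
      rw [hg, List.getD_eq_getElem _ _ hi]
  rw [← Nat.card_eq_of_bijective f hbij, Nat.card_eq_fintype_card, Fintype.card_fin]

end Cfsg.Agent.Lib.H3.OneBlk
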