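import Mathlib
import Cfsg.Prelude.Def_Sporadic_a
import Cfsg.Prelude.Def_Spor_Mathieu
import Cfsg.Prelude.Def_Blocks
import Cfsg.Agent.Lib.H27.OutM22
import Cfsg.Agent.Lib.H27.M24CntP
import Cfsg.Agent.Lib.H3.OneBlk.WordGrp
import Cfsg.Agent.Lib.H3.OneBlk.NoDefZero

/-!
# Local data of `M22` at the prime 3 (helper3)

An element `r` of order 3 of `M22` (as a word in the generators of `M24`), inverted by an involution,
centralized by a four-group, contained in an elementary abelian group of order 9 all of whose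
nonidentity elements are conjugate to `r`, with centralizer of order 36 (helper27's counting tool).
-/

set_option autoImplicit false

namespace Cfsg.Agent.Lib.H3.OneBlk

open Cfsg Cfsg.Agent.Lib.H28 Cfsg.Agent.Lib.H27 Cfsg.Agent.Lib.H27.M24NF Cfsg.Agent.Lib.H27.M24Cnt
  Cfsg.Agent.Lib.H27.M24CntP Cfsg.Agent.Lib.H27.OutM

def rW : List ℕ := [1, 1, 3, 0, 4, 1, 4, 0, 0, 4]

def wW : List ℕ := [3, 3, 1, 4, 1, 4, 1, 3, 3]

def v1W : List ℕ := [3, 1, 4, 4, 0, 0, 0, 0, 0, 3, 0, 0, 4, 4, 0, 3, 0]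

def v2W : List ℕ := [0, 4, 0, 0, 0, 4, 4, 1, 2, 0, 0, 3, 1, 3, 0, 0, 2]

def pData : List (List ℕ × List ℕ) := [
  ([1, 1, 4, 4, 0, 4, 4, 1, 1, 4, 4, 0, 4], [1, 4, 0, 3, 3, 1, 2, 0, 4, 4, 1, 1, 4, 1, 2]),
  ([1, 1, 4, 4, 0, 4, 4, 1, 1, 4, 4, 0, 4, 1, 1, 4, 4, 0, 4, 4, 1, 1, 4, 4, 0, 4], [4, 4, 1, 3, 3, 1, 4, 0, 4, 4, 0]),
  ([1, 1, 3, 0, 4, 1, 4, 0, 0, 4], []),
  ([1, 1, 3, 0, 4, 1, 4, 0, 0, 4, 1, 1, 4, 4, 0, 4, 4, 1, 1, 4, 4, 0, 4], [1, 4, 1, 1, 1, 4, 1, 1, 1, 3]),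
  ([1, 1, 3, 0, 4, 1, 4, 0, 0, 4, 1, 1, 4, 4, 0, 4, 4, 1, 1, 4, 4, 0, 4, 1, 1, 4, 4, 0, 4, 4, 1, 1, 4, 4, 0, 4], [1, 4, 1, 4, 1, 3, 3, 0, 0, 0, 0, 4, 1]),
  ([1, 1, 3, 0, 4, 1, 4, 0, 0, 4, 1, 1, 3, 0, 4, 1, 4, 0, 0, 4], [3, 3, 1, 4, 1, 4, 1, 3, 3]),
  ([1, 1, 3, 0, 4, 1, 4, 0, 0, 4, 1, 1, 3, 0, 4, 1, 4, 0, 0, 4, 1, 1, 4, 4, 0, 4, 4, 1, 1, 4, 4, 0, 4], [1, 1, 4, 4, 0, 3, 0, 4, 1, 3, 3, 0, 3, 1]),
  ([1, 1, 3, 0, 4, 1, 4, 0, 0, 4, 1, 1, 3, 0, 4, 1, 4, 0, 0, 4, 1, 1, 4, 4, 0, 4, 4, 1, 1, 4, 4, 0, 4, 1, 1, 4, 4, 0, 4, 4, 1, 1, 4, 4, 0, 4], [0, 0, 4, 0, 4, 1, 3, 0, 3, 1, 1, 1, 1])]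

def rP : ℕ := 981963179697014714552589555733662784

/-- The word fixes the two points `∞` and `0`. -/
def in22 (w : List ℕ) : Bool := evalPt w 23 == 23 && evalPt w 0 == 0

theorem wordPerm_mem_M22' {w : List ℕ} (h : in22 w = true) : wordPerm w ∈ Spor.M22 := by
  unfold in22 at h
  rw [Bool.and_eq_true, beq_iff_eq, beq_iff_eq] at h
  exact wordPerm_mem_M22 h.1 h.2

/-- The element of `M22` of a word. -/
noncomputable def mk22 (w : List ℕ) (h : in22 w = true) : ↥Spor.M22 := ⟨wordPerm w, wordPerm_mem_M22' h⟩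

theorem mk22_coe (w : List ℕ) (h : in22 w = true) : ((mk22 w h : ↥Spor.M22) : Equiv.Perm GolayPt) = wordPerm w :=
  rfl

theorem rW_in : in22 rW = true := by decide +kernel
theorem wW_in : in22 wW = true := by decide +kernel

noncomputable def r22 : ↥Spor.M22 := mk22 rW rW_in

theorem r22_coe : ((r22 : ↥Spor.M22) : Equiv.Perm GolayPt) = wordPerm rW := rfl

theorem r22_order : orderOf r22 = 3 := by
  haveI : Fact (Nat.Prime 3) := ⟨by norm_num⟩
  apply orderOf_eq_prime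
  · apply Subtype.ext
    rw [Subgroup.coe_pow, r22_coe, Subgroup.coe_one, ← wordPerm_pw, ← wordPerm_nil]
    exact wordPerm_eq_of_eqW (by decide +kernel)
  · intro h
    have h1 := congrArg (Subtype.val : ↥Spor.M22 → Equiv.Perm GolayPt) h
    rw [r22_coe, Subgroup.coe_one, ← wordPerm_nil] at h1
    have h2 := eqW_of_wordPerm_eq h1
    have h3 : eqW rW [] = false := by decide +kernel
    rw [h3] at h2
    exact absurd h2 (by decide)

theorem r22_real : IsConj r22 r22⁻¹ := by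
  rw [isConj_iff]
  refine ⟨mk22 wW wW_in, ?_⟩
  have h : r22 * mk22 wW wW_in * r22 = mk22 wW wW_in := by
    apply Subtype.ext
    rw [Subgroup.coe_mul, Subgroup.coe_mul, r22_coe, mk22_coe, ← wordPerm_append, ← wordPerm_append]
    exact wordPerm_eq_of_eqW (by decide +kernel)
  calc mk22 wW wW_in * r22 * (mk22 wW wW_in)⁻¹
      = r22⁻¹ * (r22 * mk22 wW wW_in * r22) * (mk22 wW wW_in)⁻¹ := by group
    _ = r22⁻¹ * mk22 wW wW_in * (mk22 wW wW_in)⁻¹ := by rw [h]
    _ = r22⁻¹ := by group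

/-! ### The four-group -/

def vWords : List (List ℕ) := [[], v1W, v2W, v1W ++ v2W]

theorem vWords_closed : closedW vWords = true := by decide +kernel

theorem vWords_in : vWords.all in22 = true := by decide +kernel

theorem vWords_distinct : distinctW vWords = true := by decide +kernel

theorem vWords_sq : vWords.all (fun a => eqW (a ++ a) []) = true := by decide +kernel

theorem vWords_comm : vWords.all (fun a => eqW (a ++ rW) (rW ++ a)) = true := by decide +kernel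

noncomputable def V22 : Subgroup ↥Spor.M22 := wordsSubgroup Spor.M22 vWords vWords_closed

theorem card_V22 : Nat.card V22 = 4 :=
  card_wordsSubgroup Spor.M22 vWords vWords_closed
    (fun w hw => wordPerm_mem_M22' (List.all_eq_true.1 vWords_in w hw)) vWords_distinct

theorem V22_sq : ∀ v ∈ V22, v * v = 1 := by
  rintro v ⟨w, hw, hv⟩
  apply Subtype.ext
  rw [Subgroup.coe_mul, hv, Subgroup.coe_one, ← wordPerm_append, ← wordPerm_nil]
  exact wordPerm_eq_of_eqW (List.all_eq_true.1 vWords_sq w hw)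

theorem V22_comm : ∀ v ∈ V22, Commute v r22 := by
  rintro v ⟨w, hw, hv⟩
  apply Subtype.ext
  rw [Subgroup.coe_mul, Subgroup.coe_mul, hv, r22_coe, ← wordPerm_append, ← wordPerm_append]
  exact wordPerm_eq_of_eqW (List.all_eq_true.1 vWords_comm w hw)

/-! ### The group of order 9 -/

def pWords : List (List ℕ) := [] :: pData.map Prod.fst

theorem pWords_closed : closedW pWords = true := by decide +kernel

theorem pWords_in : pWords.all in22 = true := by decide +kernel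

theorem pWords_distinct : distinctW pWords = true := by decide +kernel

theorem pData_ok : pData.all (fun pc => in22 pc.2 && eqW (pc.2 ++ rW) (pc.1 ++ pc.2)) = true := by
  decide +kernel

noncomputable def P22 : Subgroup ↥Spor.M22 := wordsSubgroup Spor.M22 pWords pWords_closed

theorem card_P22 : Nat.card P22 = 9 :=
  card_wordsSubgroup Spor.M22 pWords pWords_closed
    (fun w hw => wordPerm_mem_M22' (List.all_eq_true.1 pWords_in w hw)) pWords_distinct

theorem P22_conj : ∀ x ∈ P22, x ≠ 1 → IsConj r22 x := by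
  rintro x ⟨w, hw, hx⟩ hx1
  unfold pWords at hw
  rcases List.mem_cons.1 hw with rfl | hw
  · exfalso
    apply hx1
    apply Subtype.ext
    rw [hx, wordPerm_nil, Subgroup.coe_one]
  · obtain ⟨pc, hpc, rfl⟩ := List.mem_map.1 hw
    have h := List.all_eq_true.1 pData_ok pc hpc
    rw [Bool.and_eq_true] at h
    rw [isConj_iff]
    refine ⟨mk22 pc.2 h.1, ?_⟩
    have h2 : mk22 pc.2 h.1 * r22 = x * mk22 pc.2 h.1 := by
      apply Subtype.ext
      rw [Subgroup.coe_mul, Subgroup.coe_mul, mk22_coe, r22_coe, hx, ← wordPerm_append,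
        ← wordPerm_append]
      exact wordPerm_eq_of_eqW h.2
    rw [h2, mul_inv_cancel_right]

/-! ### The centralizer -/

theorem rP_ok : pkOK rP rW = true := by decide +kernel

def ppR : List (List ℕ) := [[], [23], [0], [], [1], [2, 3], [], []]

theorem ppR_ok : ppOK rP ppR = true := by decide +kernel

set_option maxRecDepth 100000 in
theorem cntR : cntP lf22 q22 rP rP ppR 7 0 idP = 36 := by decide +kernel

theorem card_cent_perm : Nat.card {c : Equiv.Perm GolayPt //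
    (c ∈ M24 ∧ c * wordPerm rW = wordPerm rW * c) ∧ c ∈ Spor.M22} = 36 := by
  rw [card_intertwinersP lf22_iff q22_ok rP_ok rP_ok ppR_ok, cntR]

theorem card_centralizer_r22 : Nat.card (Subgroup.centralizer ({r22} : Set ↥Spor.M22)) = 36 := by
  rw [← card_cent_perm]
  apply Nat.card_congr
  refine ⟨fun c => ⟨((c : ↥Spor.M22) : Equiv.Perm GolayPt), ⟨(mem_M22.1 (c : ↥Spor.M22).2).1, ?_⟩,
    (c : ↥Spor.M22).2⟩, fun x => ⟨⟨x.1, x.2.2⟩, ?_⟩, fun c => rfl, fun x => rfl⟩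
  · have := Subgroup.mem_centralizer_iff.1 c.2 r22 (Set.mem_singleton _)
    have h2 := congrArg (Subtype.val : ↥Spor.M22 → Equiv.Perm GolayPt) this
    exact h2.symm
  · rw [Subgroup.mem_centralizer_iff]
    intro y hy
    rw [Set.mem_singleton_iff] at hy
    subst hy
    apply Subtype.ext
    exact x.2.1.2.symm

end Cfsg.Agent.Lib.H3.OneBlk
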