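import Mathlib
import Cfsg.Prelude.Def_Blocks
import Cfsg.Agent.Lib.H23.UniqueBlock
import Cfsg.Agent.Lib.H23.BlockPrincipal
import Cfsg.Agent.Lib.H23.BlockVanishP
import Cfsg.Agent.Lib.H23.BlockCentralP

/-!
# Characters outside the principal 2-block when involution centralizers are 2-constrained (helper3)

If every involution centralizer `C_G(t)` has a self-centralizing normal 2-subgroup, then `C_G(t)` has a
single 2-block; by Brauer's second and third main theorems (helper23), a character outside the principal
2-block of `G` vanishes on all elements `t * y` (`t` an involution, `y` of odd order commuting with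
`t`), and therefore has 2-defect zero.
-/

set_option autoImplicit false

namespace Cfsg.Agent.Lib.H3.OneBlk

open Cfsg Cfsg.Agent.Lib.H23 Cfsg.Agent.Lib.H24

variable {G : Type*} [Group G] [Fintype G] {M : Ideal AlgInt}

/-- The local hypothesis: every involution centralizer has a self-centralizing normal 2-subgroup. -/
def TwoConstrained (G : Type*) [Group G] : Prop :=
  ∀ t : G, orderOf t = 2 →
    ∃ Q : Subgroup (Subgroup.centralizer ({t} : Set G)), Q.Normal ∧ IsPGroup 2 Q ∧
      Subgroup.centralizer (Q : Set (Subgroup.centralizer ({t} : Set G))) ≤ Q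

theorem vanish_of_not_principal (hM : IsPModular 2 M) (hloc : TwoConstrained G)
    (χ : IrrCharacter G) (hχ : χ ∉ principalBlock M G)
    (t : G) (ht : orderOf t = 2) (y : G) (hy : Commute t y) (hyo : ¬ 2 ∣ orderOf y) :
    (χ : G → ℂ) (t * y) = 0 := by
  classical
  haveI hPr := isPrime_of_isPModular hM
  letI : Fintype (Subgroup.centralizer ({t} : Set G)) := Fintype.ofFinite _
  obtain ⟨Q, hQn, hQp, hQc⟩ := hloc t ht
  have hyC : y ∈ Subgroup.centralizer ({t} : Set G) := by
    rw [Subgroup.mem_centralizer_singleton_iff]
    exact hy.eq.symm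
  refine irr_eq_zero_of_forall_not_induced hM ⟨1, by rw [ht, pow_one]⟩ χ ?_ ⟨y, hyC⟩
    (by rwa [Subgroup.orderOf_mk])
  intro ξ₀ χ₁ hind hmem
  apply hχ
  have h1 : trivialIrr (Subgroup.centralizer ({t} : Set G)) ∈
      blockOf M (ξ₀ : Subgroup.centralizer ({t} : Set G) → ℂ) :=
    UniqueBlock.mem_blockOf_of_centralizer_le hM Q hQp hQc ξ₀ (trivialIrr _)
  have h2 : blockOf M (ξ₀ : Subgroup.centralizer ({t} : Set G) → ℂ) =
      principalBlock M (Subgroup.centralizer ({t} : Set G)) := by
    have := blockOf_eq_of_mem h1
    rw [← this]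
    rfl
  have h3 := (third_main hM (Subgroup.centralizer ({t} : Set G)) hind).2 h2
  rw [h3] at hmem
  exact hmem

/-- Under the local hypothesis a character outside the principal 2-block has 2-defect zero. -/
theorem defect_zero_of_not_principal (hM : IsPModular 2 M) (hloc : TwoConstrained G)
    (χ : IrrCharacter G) (hχ : χ ∉ principalBlock M G) :
    (charDegree (χ : G → ℂ)).factorization 2 = (Nat.card G).factorization 2 := by
  haveI : Fact (Nat.Prime 2) := ⟨Nat.prime_two⟩
  apply CentralP.defect_zero_of_vanish χ
  intro g hg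
  have := vanish_of_not_principal hM hloc χ hχ g hg 1 (Commute.one_right g) (by simp)
  rwa [mul_one] at this

end Cfsg.Agent.Lib.H3.OneBlk
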