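import Mathlib
import Cfsg.Prelude.Def_Sporadic_a
import Cfsg.Prelude.Def_Spor_Mathieu
import Cfsg.Agent.Lib.H27.InvClasses
import Cfsg.Agent.Lib.H27.OutM22
import Cfsg.Agent.Lib.H28.M24Octad
import Cfsg.Agent.Lib.H3.OneBlk.Vanish

/-!
# Involution centralizers of `M22` are 2-constrained (helper3)

The pointwise stabilizer `E` in `M24` of an octad is self-centralizing in `M24` (it is regular on the 16
remaining points, and an element of `M24` fixing these 16 points is trivial).  For an involution `t` of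
`M22`, the fixed points of `t` form an octad and `E` is a normal 2-subgroup of `C(t)` containing its
centralizer.
-/

set_option autoImplicit false

namespace Cfsg.Agent.Lib.H3.OneBlk

open Cfsg Cfsg.Agent.Lib.H28 Cfsg.Agent.Lib.H27
open scoped Pointwise

/-- The mask of the 16 points outside the base octad. -/
def outMask : ℕ := 8241104

def outSteps : List (ℕ × ℕ × ℕ) :=
  [(4845570, 6053905, 14), (13062145, 13938692, 23), (13062145, 7221256, 17), (13062145, 9347075, 0),
   (4845570, 9347075, 1), (13938692, 1302533, 2), (7221256, 11100169, 3), (11952160, 7417889, 5)]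

theorem outSteps_ok : runSteps outMask outSteps = some 16777215 := by decide +kernel

theorem outMask_spec : ∀ k < 24, outMask.testBit k = true → baseOctad.testBit k = false := by
  decide +kernel

theorem baseOctad_spec : ∀ k < 24, baseOctad.testBit k = true → k ∈ octPts := by decide +kernel

theorem baseOctad_spec' : ∀ k < 24, baseOctad.testBit k = false → outMask.testBit k = true := by
  decide +kernel

/-- The element of `K0` mapping `4` to `6` fixes no point outside the base octad. -/
theorem k0_six_fpf : (List.range 24).all (fun k => baseOctad.testBit k ||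
    evalPt (k0Tab.getD 6 []) k != k) = true := by decide +kernel

theorem K0_comm {a b : Equiv.Perm GolayPt} (ha : a ∈ K0) (hb : b ∈ K0) : a * b = b * a := by
  have h1 := K0_sq ha
  have h2 := K0_sq hb
  have h3 := K0_sq (K0.mul_mem ha hb)
  have ha' : a⁻¹ = a := inv_eq_of_mul_eq_one_right h1
  have hb' : b⁻¹ = b := inv_eq_of_mul_eq_one_right h2
  have h4 : (a * b)⁻¹ = a * b := inv_eq_of_mul_eq_one_right h3
  rw [mul_inv_rev, ha', hb'] at h4
  exact h4.symm

/-- `K0` is self-centralizing in `M24`. -/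
theorem centralizer_K0_le {g : Equiv.Perm GolayPt} (hg : g ∈ M24)
    (hc : ∀ e ∈ K0, g * e = e * g) : g ∈ K0 := by
  -- the image of the point 4 lies outside the base octad
  have h6 : baseOctad.testBit 6 = false := by decide +kernel
  obtain ⟨he0, he04⟩ := word_mem_K0 (z := 6) (by norm_num) h6
  set e0 := wordPerm (k0Tab.getD 6 []) with he0def
  set z := gIdx (g (gPt 4)) with hz
  have hz24 : z < 24 := gIdx_lt _
  have hzout : baseOctad.testBit z = false := by
    by_contra hcon
    rw [Bool.not_eq_false] at hcon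
    have hzo := baseOctad_spec z hz24 hcon
    have hfix : e0 (g (gPt 4)) = g (gPt 4) := by
      have := K0_fix he0 z hzo
      rwa [hz, gPt_gIdx] at this
    have h1 : (g * e0) (gPt 4) = (e0 * g) (gPt 4) := by rw [hc e0 he0]
    rw [Equiv.Perm.mul_apply, Equiv.Perm.mul_apply, hfix, he04] at h1
    have h2 := g.injective h1
    have h3 := congrArg gIdx h2
    rw [gIdx_gPt (by norm_num), gIdx_gPt (by norm_num)] at h3
    norm_num at h3
  obtain ⟨heK, he4⟩ := word_mem_K0 hz24 hzout
  set e := wordPerm (k0Tab.getD z []) with hedef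
  have he4' : e (gPt 4) = g (gPt 4) := by rw [he4, hz, gPt_gIdx]
  have heM : e ∈ M24 := wordPerm_mem_M24 _
  have hhM : e⁻¹ * g ∈ M24 := M24.mul_mem (M24.inv_mem heM) hg
  have hfix : ∀ p, outMask.testBit (gIdx p) = true → (e⁻¹ * g) p = p := by
    intro p hp
    have hpout := outMask_spec (gIdx p) (gIdx_lt p) hp
    obtain ⟨he'K, he'4⟩ := word_mem_K0 (gIdx_lt p) hpout
    set e' := wordPerm (k0Tab.getD (gIdx p) []) with he'def
    rw [gPt_gIdx] at he'4
    have h1 : g p = e' (e (gPt 4)) := by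
      rw [← he'4, ← Equiv.Perm.mul_apply, hc e' he'K, Equiv.Perm.mul_apply, he4']
    rw [Equiv.Perm.mul_apply, h1, ← Equiv.Perm.mul_apply e' e, K0_comm he'K heK,
      Equiv.Perm.mul_apply, Equiv.Perm.inv_def, Equiv.symm_apply_apply, he'4]
  have h1 := eq_one_of_runSteps hhM outSteps_ok hfix
  have : g = e := by
    rw [inv_mul_eq_one] at h1
    exact h1.symm
  rw [this]
  exact heK

theorem mem_octadFix_iff {g0 : Equiv.Perm GolayPt} (hg0 : g0 ∈ M24) (x : Equiv.Perm GolayPt) :
    x ∈ M24 ⊓ fixingSubgroup (Equiv.Perm GolayPt) ((g0 • oct0 : Finset GolayPt) : Set GolayPt) ↔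
      g0⁻¹ * x * g0 ∈ K0 := by
  rw [K0_eq, Subgroup.mem_inf, Subgroup.mem_inf, mem_fixing_smul_iff]
  constructor
  · rintro ⟨h1, h2⟩
    exact ⟨M24.mul_mem (M24.mul_mem (M24.inv_mem hg0) h1) hg0, h2⟩
  · rintro ⟨h1, h2⟩
    refine ⟨?_, h2⟩
    have := M24.mul_mem (M24.mul_mem hg0 h1) (M24.inv_mem hg0)
    simpa [mul_assoc] using this

/-- The pointwise stabilizer of an octad is self-centralizing in `M24`. -/
theorem centralizer_octad_le {o : Finset GolayPt} (ho : o ∈ octads) {g : Equiv.Perm GolayPt}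
    (hg : g ∈ M24)
    (hc : ∀ e ∈ M24 ⊓ fixingSubgroup (Equiv.Perm GolayPt) (o : Set GolayPt), g * e = e * g) :
    g ∈ fixingSubgroup (Equiv.Perm GolayPt) (o : Set GolayPt) := by
  obtain ⟨g0, hg0, rfl⟩ := exists_M24_smul_octad oct0_mem_octads ho
  have hK : g0⁻¹ * g * g0 ∈ K0 := by
    apply centralizer_K0_le (M24.mul_mem (M24.mul_mem (M24.inv_mem hg0) hg) hg0)
    intro e he
    have he' : g0 * e * g0⁻¹ ∈ M24 ⊓ fixingSubgroup (Equiv.Perm GolayPt)
        ((g0 • oct0 : Finset GolayPt) : Set GolayPt) := by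
      rw [mem_octadFix_iff hg0]
      have : g0⁻¹ * (g0 * e * g0⁻¹) * g0 = e := by group
      rw [this]; exact he
    have h1 := hc _ he'
    calc g0⁻¹ * g * g0 * e = g0⁻¹ * (g * (g0 * e * g0⁻¹)) * g0 := by group
      _ = g0⁻¹ * ((g0 * e * g0⁻¹) * g) * g0 := by rw [h1]
      _ = e * (g0⁻¹ * g * g0) := by group
  exact ((mem_octadFix_iff hg0 g).2 hK).2


open OutM in
/-- Every involution centralizer of `M22` has a self-centralizing normal 2-subgroup. -/
theorem twoConstrained_M22 : TwoConstrained ↥Spor.M22 := by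
  intro t ht
  classical
  obtain ⟨htM, htn, ht0⟩ := mem_M22.1 t.2
  have hto : orderOf (t : Equiv.Perm GolayPt) = 2 := by rw [Subgroup.orderOf_coe]; exact ht
  set o : Finset GolayPt := Finset.univ.filter (fun p => (t : Equiv.Perm GolayPt) p = p) with ho
  have hmemo : ∀ p, p ∈ o ↔ (t : Equiv.Perm GolayPt) p = p := by
    intro p; rw [ho, Finset.mem_filter]; simp
  have hoct : o ∈ octads := by
    rcases InvNF.main.1 _ htM hto with h | h
    · exact h
    · exact absurd htn (h none)
  set E : Subgroup (Equiv.Perm GolayPt) :=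
    M24 ⊓ fixingSubgroup (Equiv.Perm GolayPt) (o : Set GolayPt) with hE
  have hEsq : ∀ g ∈ E, g * g = 1 := (octad_pointwise_stabilizer hoct).2
  have hEcomm : ∀ a ∈ E, ∀ b ∈ E, a * b = b * a := by
    intro a ha b hb
    have h1 := hEsq a ha
    have h2 := hEsq b hb
    have h3 := hEsq _ (E.mul_mem ha hb)
    have ha' : a⁻¹ = a := inv_eq_of_mul_eq_one_right h1
    have hb' : b⁻¹ = b := inv_eq_of_mul_eq_one_right h2
    have h4 : (a * b)⁻¹ = a * b := inv_eq_of_mul_eq_one_right h3
    rw [mul_inv_rev, ha', hb'] at h4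
    exact h4.symm
  have htE : (t : Equiv.Perm GolayPt) ∈ E := by
    rw [hE, Subgroup.mem_inf, mem_fixingSubgroup_iff]
    refine ⟨htM, ?_⟩
    intro p hp
    exact (hmemo p).1 (Finset.mem_coe.1 hp)
  have hEfix : ∀ e ∈ E, ∀ p ∈ o, e p = p := by
    intro e he p hp
    rw [hE, Subgroup.mem_inf, mem_fixingSubgroup_iff] at he
    exact he.2 p (Finset.mem_coe.2 hp)
  set C := Subgroup.centralizer ({t} : Set ↥Spor.M22) with hC
  let φ : ↥C →* Equiv.Perm GolayPt := (Spor.M22.subtype).comp C.subtype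
  have hφ : ∀ c : ↥C, φ c = ((c : ↥Spor.M22) : Equiv.Perm GolayPt) := fun _ => rfl
  have hcomm : ∀ c : ↥C, φ c * (t : Equiv.Perm GolayPt) = (t : Equiv.Perm GolayPt) * φ c := by
    intro c
    have := Subgroup.mem_centralizer_iff.1 c.2 t (Set.mem_singleton t)
    have h2 := congrArg (Subtype.val : ↥Spor.M22 → Equiv.Perm GolayPt) this
    exact h2.symm
  have hφM : ∀ c : ↥C, φ c ∈ M24 := fun c => (mem_M22.1 (c : ↥Spor.M22).2).1
  refine ⟨E.comap φ, ?_, ?_, ?_⟩
  · -- normal
    constructor
    intro q hq c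
    rw [Subgroup.mem_comap] at hq ⊢
    rw [map_mul, map_mul, map_inv]
    rw [hE, Subgroup.mem_inf, mem_fixingSubgroup_iff] at hq ⊢
    refine ⟨M24.mul_mem (M24.mul_mem (hφM c) hq.1) (M24.inv_mem (hφM c)), ?_⟩
    intro p hp
    have hp' : (t : Equiv.Perm GolayPt) p = p := (hmemo p).1 (Finset.mem_coe.1 hp)
    have h1 : (φ c)⁻¹ p ∈ (o : Set GolayPt) := by
      rw [Finset.mem_coe, hmemo]
      have h2 : (φ c * (t : Equiv.Perm GolayPt)) ((φ c)⁻¹ p) =
          ((t : Equiv.Perm GolayPt) * φ c) ((φ c)⁻¹ p) := by rw [hcomm c]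
      have hinv : (φ c) ((φ c)⁻¹ p) = p := by
        rw [Equiv.Perm.inv_def, Equiv.apply_symm_apply]
      rw [Equiv.Perm.mul_apply, Equiv.Perm.mul_apply, hinv, hp'] at h2
      exact (φ c).injective (h2.trans hinv.symm)
    have h4 := hq.2 _ h1
    rw [Equiv.Perm.smul_def] at h4 ⊢
    rw [Equiv.Perm.mul_apply, Equiv.Perm.mul_apply, h4, Equiv.Perm.inv_def, Equiv.apply_symm_apply]
  · -- 2-group
    intro q
    refine ⟨1, ?_⟩
    rw [pow_one, sq]
    apply Subtype.ext
    apply Subtype.ext
    apply Subtype.ext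
    have := hEsq _ q.2
    exact this
  · -- self-centralizing
    intro c hc
    rw [Subgroup.mem_comap, hE, Subgroup.mem_inf]
    refine ⟨hφM c, ?_⟩
    apply centralizer_octad_le hoct (hφM c)
    intro e he
    -- lift `e` to the centralizer
    have heM22 : e ∈ Spor.M22 := by
      rw [mem_M22]
      have he' := he
      rw [Subgroup.mem_inf] at he'
      refine ⟨he'.1, hEfix e he none ((hmemo none).2 htn), hEfix e he (some 0) ((hmemo _).2 ht0)⟩
    have heC : (⟨e, heM22⟩ : ↥Spor.M22) ∈ C := by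
      rw [hC, Subgroup.mem_centralizer_iff]
      intro x hx
      rw [Set.mem_singleton_iff] at hx
      subst hx
      apply Subtype.ext
      exact hEcomm _ htE e he
    have heQ : (⟨⟨e, heM22⟩, heC⟩ : ↥C) ∈ (E.comap φ : Subgroup ↥C) := by
      rw [Subgroup.mem_comap]
      exact he
    have h1 := Subgroup.mem_centralizer_iff.1 hc _ heQ
    have h2 := congrArg φ h1
    rw [map_mul, map_mul] at h2
    exact h2.symm

end Cfsg.Agent.Lib.H3.OneBlk
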