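import Mathlib
import Cfsg.Prelude.Def_Blocks
import Cfsg.Prelude.Def_Spor_Mathieu
import Cfsg.Agent.Lib.H3.OneBlk.Vanish
import Cfsg.Agent.Lib.H3.OneBlk.NoDefZero
import Cfsg.Agent.Lib.H3.OneBlk.M22Loc
import Cfsg.Agent.Lib.H3.OneBlk.M22Data

/-!
# `M22` has a single 2-block (helper3)
-/

set_option autoImplicit false

namespace Cfsg.Agent.Lib.H3.OneBlk

open Cfsg Cfsg.Agent.Lib.H23 Cfsg.Agent.Lib.H24 Cfsg.Agent.Lib.H27

theorem factorization_card_M22 : (443520 : ℕ).factorization 2 = 7 := by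
  have h : (443520 : ℕ) = 2 ^ 7 * 3465 := by norm_num
  rw [h, Nat.factorization_mul (by norm_num) (by norm_num), Nat.factorization_pow]
  have h2 : (3465 : ℕ).factorization 2 = 0 := Nat.factorization_eq_zero_of_not_dvd (by norm_num)
  simp [h2, Nat.Prime.factorization_self Nat.prime_two]

theorem mem_principalBlock_M22 (M : Ideal AlgInt) (hM : IsPModular 2 M)
    (χ : IrrCharacter ↥Spor.M22) : χ ∈ principalBlock M ↥Spor.M22 := by
  classical
  letI : Fintype ↥Spor.M22 := Fintype.ofFinite _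
  by_contra hχ
  have hv := vanish_of_not_principal hM twoConstrained_M22 χ hχ
  have hd := defect_zero_of_not_principal hM twoConstrained_M22 χ hχ
  have hcard : Nat.card ↥Spor.M22 = 443520 := OutM.closure22.2
  rw [hcard, factorization_card_M22] at hd
  exact no_defect_zero hcard χ hd (fun t y h1 h2 h3 => hv t h1 y h2 h3) r22 r22_order r22_real V22 card_V22 V22_sq V22_comm
    P22 card_P22 P22_conj (by rw [card_centralizer_r22]; norm_num)

theorem sameBlock_M22 (M : Ideal AlgInt) (hM : IsPModular 2 M) (χ ψ : IrrCharacter ↥Spor.M22) :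
    SameBlock M (χ : ↥Spor.M22 → ℂ) (ψ : ↥Spor.M22 → ℂ) := by
  haveI hPr := isPrime_of_isPModular hM
  have h1 : SameBlock M (fun _ : ↥Spor.M22 => (1 : ℂ)) (χ : ↥Spor.M22 → ℂ) :=
    mem_principalBlock_M22 M hM χ
  have h2 : SameBlock M (fun _ : ↥Spor.M22 => (1 : ℂ)) (ψ : ↥Spor.M22 → ℂ) :=
    mem_principalBlock_M22 M hM ψ
  exact sameBlock_trans (M := M) (sameBlock_symm h1) h2

end Cfsg.Agent.Lib.H3.OneBlk
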