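import Mathlib
import Cfsg.Prelude.Def_Sporadic_a
import Cfsg.Agent.Lib.H27.M24Cnt

/-!
# Finite subgroups of a permutation group on the Golay points given by lists of words with packed tables
(helper3)

The closure under products is checked on packed tables (helper27's `compP`), which is much cheaper than
on words.
-/

set_option autoImplicit false

namespace Cfsg.Agent.Lib.H3.OneBlk

open Cfsg Cfsg.Agent.Lib.H28 Cfsg.Agent.Lib.H27 Cfsg.Agent.Lib.H27.M24NF Cfsg.Agent.Lib.H27.M24Cnt

theorem rep_unique {a : ℕ} {u v : Equiv.Perm GolayPt} (hu : Rep a u) (hv : Rep a v) : u = v := by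
  apply Equiv.ext
  intro p
  apply gIdx_injective
  rw [hu p, hv p]

/-- The canonical form of a packed table. -/
def canonP (a : ℕ) : ℕ := pack ((List.range 24).map (fun i => look a i))

theorem canonP_eq_of_rep {a b : ℕ} {u : Equiv.Perm GolayPt} (ha : Rep a u) (hb : Rep b u) :
    canonP a = canonP b := by
  unfold canonP
  congr 1
  apply List.map_congr_left
  intro i hi
  rw [List.mem_range] at hi
  have h1 := ha (gPt i)
  have h2 := hb (gPt i)
  rw [gIdx_gPt hi] at h1 h2
  rw [← h1, ← h2]

theorem look_canonP (a : ℕ) {i : ℕ} (hi : i < 24) : look (canonP a) i = look a i := by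
  unfold canonP
  rw [look_pack _ _ (by
    intro v hv
    rw [List.mem_map] at hv
    obtain ⟨j, _, rfl⟩ := hv
    exact look_lt _ _)]
  rw [List.getD_eq_getElem _ _ (by rw [List.length_map, List.length_range]; exact hi), List.getElem_map,
    List.getElem_range]

theorem rep_canonP {a : ℕ} {u : Equiv.Perm GolayPt} (ha : Rep a u) : Rep (canonP a) u := by
  intro p
  rw [look_canonP _ (gIdx_lt p)]
  exact ha p

/-- The entries `(word, table)`: the table is canonical and represents the word. -/
def tabsOK (es : List (List ℕ × ℕ)) : Bool :=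
  es.all (fun e => pkOK e.2 e.1 && (canonP e.2 == e.2))

/-- The tables contain the identity and are closed under products and inverses. -/
def tabsClosed (ts : List ℕ) : Bool :=
  ts.contains (canonP idP) &&
  ts.all (fun a => ts.all (fun b => ts.contains (canonP (compP a b)))) &&
  ts.all (fun a => ts.any (fun b => canonP (compP a b) == canonP idP))

theorem tabsOK_rep {es : List (List ℕ × ℕ)} (h : tabsOK es = true) {e : List ℕ × ℕ} (he : e ∈ es) :
    Rep e.2 (wordPerm e.1) ∧ canonP e.2 = e.2 := by
  have := List.all_eq_true.1 h e he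
  rw [Bool.and_eq_true, beq_iff_eq] at this
  exact ⟨rep_of_pkOK this.1, this.2⟩

/-- An element with a table whose canonical form is in the list is the permutation of a word of the list. -/
theorem exists_of_canonP_mem {es : List (List ℕ × ℕ)} (h : tabsOK es = true) {a : ℕ}
    {u : Equiv.Perm GolayPt} (ha : Rep a u) (hmem : canonP a ∈ es.map Prod.snd) :
    ∃ e ∈ es, u = wordPerm e.1 := by
  obtain ⟨e, he, hea⟩ := List.mem_map.1 hmem
  refine ⟨e, he, ?_⟩
  obtain ⟨h1, h2⟩ := tabsOK_rep h he
  have h3 : Rep (canonP a) (wordPerm e.1) := by rw [← hea]; exact h1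
  exact rep_unique (rep_canonP ha) h3

/-- The subgroup of `K` whose elements are the permutations of the words of the entries. -/
def tabsSubgroup (K : Subgroup (Equiv.Perm GolayPt)) (es : List (List ℕ × ℕ))
    (h1 : tabsOK es = true) (h2 : tabsClosed (es.map Prod.snd) = true) : Subgroup ↥K where
  carrier := {g | ∃ e ∈ es, (g : Equiv.Perm GolayPt) = wordPerm e.1}
  mul_mem' := by
    rintro a b ⟨ea, hea, ha⟩ ⟨eb, heb, hb⟩
    unfold tabsClosed at h2
    rw [Bool.and_eq_true, Bool.and_eq_true] at h2
    have h3 := List.all_eq_true.1 (List.all_eq_true.1 h2.1.2 ea.2 (List.mem_map_of_mem hea)) eb.2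
      (List.mem_map_of_mem heb)
    rw [List.contains_iff_mem] at h3
    have hr : Rep (compP ea.2 eb.2) ((a : Equiv.Perm GolayPt) * (b : Equiv.Perm GolayPt)) := by
      rw [ha, hb]
      exact (tabsOK_rep h1 hea).1.mul (tabsOK_rep h1 heb).1
    obtain ⟨e, he, hu⟩ := exists_of_canonP_mem h1 hr h3
    exact ⟨e, he, by rw [Subgroup.coe_mul]; exact hu⟩
  one_mem' := by
    unfold tabsClosed at h2
    rw [Bool.and_eq_true, Bool.and_eq_true] at h2
    have h3 := h2.1.1
    rw [List.contains_iff_mem] at h3
    obtain ⟨e, he, hu⟩ := exists_of_canonP_mem h1 rep_idP h3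
    exact ⟨e, he, by rw [Subgroup.coe_one]; exact hu⟩
  inv_mem' := by
    rintro a ⟨ea, hea, ha⟩
    unfold tabsClosed at h2
    rw [Bool.and_eq_true, Bool.and_eq_true] at h2
    have h3 := List.all_eq_true.1 h2.2 ea.2 (List.mem_map_of_mem hea)
    obtain ⟨tb, htb, hcb⟩ := List.any_eq_true.1 h3
    rw [beq_iff_eq] at hcb
    obtain ⟨eb, heb, rfl⟩ := List.mem_map.1 htb
    refine ⟨eb, heb, ?_⟩
    have hr : Rep (compP ea.2 eb.2) (wordPerm ea.1 * wordPerm eb.1) :=
      (tabsOK_rep h1 hea).1.mul (tabsOK_rep h1 heb).1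
    have hr' : Rep (canonP idP) (wordPerm ea.1 * wordPerm eb.1) := by
      rw [← hcb]; exact (rep_canonP hr)
    have h4 : wordPerm ea.1 * wordPerm eb.1 = 1 := rep_unique hr' (rep_canonP rep_idP)
    rw [Subgroup.coe_inv, ha]
    exact inv_eq_of_mul_eq_one_right h4

theorem mem_tabsSubgroup {K : Subgroup (Equiv.Perm GolayPt)} {es : List (List ℕ × ℕ)}
    {h1 : tabsOK es = true} {h2 : tabsClosed (es.map Prod.snd) = true} {g : ↥K} :
    g ∈ tabsSubgroup K es h1 h2 ↔ ∃ e ∈ es, (g : Equiv.Perm GolayPt) = wordPerm e.1 := Iff.rfl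

section card

variable (K : Subgroup (Equiv.Perm GolayPt)) (es : List (List ℕ × ℕ))
  (h1 : tabsOK es = true) (h2 : tabsClosed (es.map Prod.snd) = true)
  (hK : ∀ e ∈ es, wordPerm e.1 ∈ K) (hd : (es.map Prod.snd).Nodup)

/-- The enumeration of the subgroup. -/
noncomputable def tabsEnum : Fin es.length → tabsSubgroup K es h1 h2 := fun i =>
  ⟨⟨wordPerm (es.get i).1, hK _ (List.get_mem es i)⟩, ⟨_, List.get_mem es i, rfl⟩⟩

include hd in
theorem tabsEnum_bijective : Function.Bijective (tabsEnum K es h1 h2 hK) := by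
  constructor
  · intro i j hij
    have h3 : wordPerm (es.get i).1 = wordPerm (es.get j).1 := by
      have := congrArg (fun x : tabsSubgroup K es h1 h2 => ((x : ↥K) : Equiv.Perm GolayPt)) hij
      exact this
    obtain ⟨hi1, hi2⟩ := tabsOK_rep h1 (List.get_mem es i)
    obtain ⟨hj1, hj2⟩ := tabsOK_rep h1 (List.get_mem es j)
    rw [h3] at hi1
    have h4 : (es.get i).2 = (es.get j).2 := by
      rw [← hi2, ← hj2]
      exact canonP_eq_of_rep hi1 hj1
    have h5 : (es.map Prod.snd).get ⟨i.1, by rw [List.length_map]; exact i.2⟩ =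
        (es.map Prod.snd).get ⟨j.1, by rw [List.length_map]; exact j.2⟩ := by
      simp only [List.get_eq_getElem, List.getElem_map]
      exact h4
    have h6 := (List.Nodup.get_inj_iff hd).1 h5
    exact Fin.ext (by simpa using h6)
  · rintro ⟨g, e, he, hg⟩
    obtain ⟨i, hi⟩ := List.get_of_mem he
    refine ⟨i, ?_⟩
    apply Subtype.ext
    apply Subtype.ext
    show wordPerm (es.get i).1 = (g : Equiv.Perm GolayPt)
    rw [hg, hi]

include hd hK in
theorem card_tabsSubgroup : Nat.card (tabsSubgroup K es h1 h2) = es.length := by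
  rw [← Nat.card_eq_of_bijective _ (tabsEnum_bijective K es h1 h2 hK hd), Nat.card_eq_fintype_card,
    Fintype.card_fin]

include hd hK in
/-- Sums over the subgroup. -/
theorem sum_tabsSubgroup [Fintype (tabsSubgroup K es h1 h2)] (F : Equiv.Perm GolayPt → ℂ) :
    ∑ u : tabsSubgroup K es h1 h2, F ((u : ↥K) : Equiv.Perm GolayPt) =
      (es.map (fun e => F (wordPerm e.1))).sum := by
  rw [← Fintype.sum_bijective _ (tabsEnum_bijective K es h1 h2 hK hd)
    (fun i => F (wordPerm (es.get i).1)) _ (fun i => rfl)]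
  simp only [List.get_eq_getElem]
  exact Fin.sum_univ_fun_getElem es (fun e => F (wordPerm e.1))

end card

end Cfsg.Agent.Lib.H3.OneBlk
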