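import Mathlib
import Cfsg.Prelude.Def_Sporadic_a
import Cfsg.Prelude.Def_Blocks
import Cfsg.Agent.Lib.H27.M24CntP
import Cfsg.Agent.Lib.H3.OneBlk.TabGrp

/-!
# Local data of `M24` at the prime 3 (helper3)

Representatives `rA` (with fixed points) and `rB` (without) of the two classes of elements of order 3, as
words in the generators; each is inverted by an element and centralized by a group of order 8; their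
centralizers have orders 1080 and 504 (helper27's counting tool); a subgroup of order 27 with 14 conjugates
of `rA` and 12 conjugates of `rB`.
-/

set_option autoImplicit false

namespace Cfsg.Agent.Lib.H3.OneBlk

open Cfsg Cfsg.Agent.Lib.H28 Cfsg.Agent.Lib.H27 Cfsg.Agent.Lib.H27.M24NF Cfsg.Agent.Lib.H27.M24Cnt

namespace D24

def rAw : List ℕ := [4, 1, 4, 1, 1, 3, 3, 1, 3, 0, 4, 1, 4, 1, 4, 0, 4, 1, 4, 1, 1, 4, 4, 0, 3, 0, 4, 0, 0, 0, 0, 4, 1, 3, 3, 1, 1, 4, 4, 0, 0, 2, 1, 1, 3, 3, 0, 0, 1, 4, 4, 0, 3, 0, 3, 3, 3, 0, 1, 1, 4, 4, 0, 0, 2, 1, 1, 3, 3, 0, 0, 4, 4, 0, 3, 1, 1, 1, 1, 3, 1, 4, 1, 3, 3, 0, 0, 3, 0, 3, 1, 3, 0, 3, 0, 3, 1, 4, 0, 4, 4, 0, 0, 3, 0, 3]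

def rBw : List ℕ := [1, 1, 4, 4, 0, 4, 4, 2, 1, 4, 4, 0, 0, 0, 0, 4, 1, 1, 4, 4, 2, 0, 3, 2, 4, 3, 0, 4, 1, 2, 3, 3, 0, 0, 3, 1, 1, 1, 1, 3, 3, 0, 2, 3, 3, 1, 3, 3, 0, 0]

/-- Words inverting `rA` and `rB`. -/
def wAw : List ℕ := [2, 0, 0, 3, 3, 0, 4, 0, 0, 0, 0, 0, 0, 4, 0, 0, 0, 0, 3, 3, 0, 3, 0, 3, 1, 4, 0, 4, 4, 0, 0, 3, 0, 3]

def wBw : List ℕ := [2, 0, 0, 3, 3, 0, 4, 0, 0, 3, 1, 3, 3, 1, 3, 0, 0, 4, 1, 3, 1, 3, 1, 4, 0, 3, 0, 1, 1, 1, 1, 4, 1, 3, 0, 4, 4, 0]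

/-- The element of `M24` of a word. -/
noncomputable def mk24 (w : List ℕ) : ↥M24 := ⟨wordPerm w, wordPerm_mem_M24 w⟩

theorem mk24_coe (w : List ℕ) : ((mk24 w : ↥M24) : Equiv.Perm GolayPt) = wordPerm w := rfl

noncomputable def rA : ↥M24 := mk24 rAw

noncomputable def rB : ↥M24 := mk24 rBw

theorem order_three {w : List ℕ} (h1 : eqW (pw w 3) [] = true) (h2 : eqW w [] = false) :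
    orderOf (mk24 w) = 3 := by
  haveI : Fact (Nat.Prime 3) := ⟨by norm_num⟩
  apply orderOf_eq_prime
  · apply Subtype.ext
    rw [Subgroup.coe_pow, mk24_coe, Subgroup.coe_one, ← wordPerm_pw, ← wordPerm_nil]
    exact wordPerm_eq_of_eqW h1
  · intro h
    have h3 := congrArg (Subtype.val : ↥M24 → Equiv.Perm GolayPt) h
    rw [mk24_coe, Subgroup.coe_one, ← wordPerm_nil] at h3
    have h4 := eqW_of_wordPerm_eq h3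
    rw [h2] at h4
    exact absurd h4 (by decide)

theorem rA_order : orderOf rA = 3 := order_three (by decide +kernel) (by decide +kernel)

theorem rB_order : orderOf rB = 3 := order_three (by decide +kernel) (by decide +kernel)

theorem real_of_word {w c : List ℕ} (h : eqW (w ++ c ++ w) c = true) :
    IsConj (mk24 w) (mk24 w)⁻¹ := by
  rw [isConj_iff]
  refine ⟨mk24 c, ?_⟩
  have h' : mk24 w * mk24 c * mk24 w = mk24 c := by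
    apply Subtype.ext
    rw [Subgroup.coe_mul, Subgroup.coe_mul, mk24_coe, mk24_coe, ← wordPerm_append, ← wordPerm_append]
    exact wordPerm_eq_of_eqW h
  calc mk24 c * mk24 w * (mk24 c)⁻¹
      = (mk24 w)⁻¹ * (mk24 w * mk24 c * mk24 w) * (mk24 c)⁻¹ := by group
    _ = (mk24 w)⁻¹ * mk24 c * (mk24 c)⁻¹ := by rw [h']
    _ = (mk24 w)⁻¹ := by group

theorem rA_real : IsConj rA rA⁻¹ := real_of_word (c := wAw) (by decide +kernel)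

theorem rB_real : IsConj rB rB⁻¹ := real_of_word (c := wBw) (by decide +kernel)

theorem rA_fix : evalPt rAw 4 = 4 := by decide +kernel

theorem rB_fpf : ∀ k < 24, evalPt rBw k ≠ k := by decide +kernel

theorem rA_rB_not_conj : ¬ IsConj rA rB := by
  intro h
  obtain ⟨c, hc⟩ := isConj_iff.1 h
  have h1 := congrArg (Subtype.val : ↥M24 → Equiv.Perm GolayPt) hc
  have hA : ((rA : ↥M24) : Equiv.Perm GolayPt) = wordPerm rAw := rfl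
  have hB : ((rB : ↥M24) : Equiv.Perm GolayPt) = wordPerm rBw := rfl
  rw [Subgroup.coe_mul, Subgroup.coe_mul, Subgroup.coe_inv, hA, hB] at h1
  have h3 : wordPerm rAw (gPt 4) = gPt 4 := by
    apply gIdx_injective
    rw [gIdx_wordPerm, gIdx_gPt (by norm_num), rA_fix]
  have h2 : wordPerm rBw ((c : Equiv.Perm GolayPt) (gPt 4)) = (c : Equiv.Perm GolayPt) (gPt 4) := by
    rw [← h1, Equiv.Perm.mul_apply, Equiv.Perm.mul_apply, Equiv.Perm.inv_def, Equiv.symm_apply_apply, h3]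
  have h4 := congrArg gIdx h2
  rw [gIdx_wordPerm] at h4
  exact rB_fpf _ (gIdx_lt _) h4

/-! ### The groups of order 8 -/

def dAEs : List (List ℕ × ℕ) := [
  ([], 984818244535754528103549039458486304),
  ([1, 4, 0, 0, 0, 0, 3, 1, 3, 0, 0, 4, 1, 1, 1, 4, 1, 4, 1, 1, 3, 3, 1, 3, 0, 4, 1, 4, 1, 4], 967812279691448225500382947153381408),
  ([1, 4, 4, 1, 4, 1, 1, 1, 4, 1, 1, 3, 1, 1, 4, 1, 4, 1, 1, 3, 3, 1, 3, 0, 4, 1, 4, 1, 4], 966182099583441531322624363496310816),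
  ([4, 1, 1, 1, 3, 1, 3, 1, 4, 1, 3, 3], 980224387687010295957922729495201824),
  ([0, 0, 2, 1, 1, 1, 4, 4, 0, 3, 0, 0, 0, 3, 3, 1, 4, 0, 1, 4, 4, 1, 4, 0, 0, 3, 1, 1, 1, 3, 1, 4], 108618258480521149059091606680919203),
  ([0, 0, 2, 1, 1, 1, 4, 4, 0, 3, 0, 0, 0, 3, 3, 1, 4, 0, 3, 0, 4, 4, 0, 3, 3, 0, 0, 3, 0, 4, 1, 3, 3, 0, 3, 0, 3, 1, 4, 0, 4, 4, 0, 0, 3, 0, 3], 94208351695632645285582607090736291),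
  ([0, 0, 2, 1, 1, 1, 4, 4, 0, 3, 0, 0, 0, 3, 3, 1, 4, 0, 1, 3, 1, 1, 1, 4, 0, 4, 1, 1, 1, 1, 4, 3, 0, 3, 0, 3, 1, 4, 0, 4, 4, 0, 0, 3, 0, 3], 95174282879448354534893439596649635),
  ([0, 0, 2, 1, 1, 1, 4, 4, 0, 3, 0, 0, 0, 3, 3, 1, 4, 0, 0, 3, 0, 3, 0, 4, 1, 4, 4, 1, 3, 0, 4, 0, 3, 0, 3, 0, 3, 1, 4, 0, 4, 4, 0, 0, 3, 0, 3], 111812629042434917999848898310462627)]

def dBEs : List (List ℕ × ℕ) := [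
  ([], 984818244535754528103549039458486304),
  ([0, 0, 2, 1, 1, 3, 3, 0, 0, 4, 0, 0, 0, 0, 0, 4, 0, 0, 0, 0, 3, 1, 3, 3, 1, 4, 0, 3, 0, 0, 0, 0, 4, 1, 4, 1, 1, 3, 3, 1, 3, 0, 4, 1, 4, 1, 4], 104185192372569126293322284099907715),
  ([2, 1, 1, 2, 0, 4, 4, 1, 1, 1, 1, 1, 3, 3, 0, 4, 4, 0, 0, 0, 0, 4, 1, 0, 3, 3, 1, 4, 1, 1, 1, 3, 1, 3, 0, 4, 4, 0, 4, 0, 4, 0, 0, 0, 4, 0, 4, 4, 3, 0, 3, 0, 3, 1, 4, 0, 4, 4, 0, 0, 3, 0, 3], 515385341612062515698154339522128550),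
  ([2, 0, 0, 2, 3, 1, 3, 1, 4, 0, 3, 1, 4, 4, 0, 3, 0, 0, 0, 3, 3, 1, 4, 0, 0, 3, 0, 0, 4, 1, 4, 0, 3, 3, 1, 4, 1, 1, 3, 0, 0, 0, 0, 4, 1, 4, 1, 1, 3, 3, 1, 3, 0, 4, 1, 4, 1, 4], 465403200821373513220798901669876173),
  ([0, 4, 0, 2, 1, 4, 4, 1, 0, 0, 4, 1, 1, 1, 0, 3, 1, 3, 3, 1, 3, 0, 0, 1, 1, 3, 1, 4, 1, 1, 3, 3, 1, 4, 0, 0, 0, 0, 3, 1, 3, 0, 0, 4, 1, 1, 1, 4, 1, 4, 1, 1, 3, 3, 1, 3, 0, 4, 1, 4, 1, 4], 314352419536833183521121100693417263),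
  ([0, 4, 1, 2, 1, 4, 4, 1, 0, 3, 1, 3, 1, 1, 4, 1, 1, 4, 1, 4, 4, 1, 1, 4, 4, 1, 1, 1, 1, 1, 1, 4, 0, 4, 3, 0, 4, 4, 0, 3, 3, 0, 0, 3, 0, 4, 1, 3], 835056054822506841365904691883101360),
  ([1, 2, 0, 0, 2, 1, 3, 0, 0, 0, 4, 1, 1, 1, 4, 1, 1, 4, 4, 0, 4, 1, 4, 4, 1, 1, 1, 4, 1, 3, 0, 0, 1, 4, 0, 0, 0, 0, 3, 1, 3, 0, 0, 4, 1, 1, 1], 435041491641999025738025543943609618),
  ([4, 1, 2, 0, 0, 0, 3, 3, 1, 3, 3, 0, 0, 3, 0, 0, 0, 0, 0, 4, 0, 0, 0, 4, 1, 4, 1, 0, 3, 0, 3, 0, 4, 1, 4, 4, 1, 3, 0, 4, 0], 789810637463692525906918367666085430)]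

theorem dAEs_ok : tabsOK dAEs = true := by decide +kernel
theorem dAEs_closed : tabsClosed (dAEs.map Prod.snd) = true := by decide +kernel
theorem dAEs_nodup : (dAEs.map Prod.snd).Nodup := by decide +kernel
theorem dAEs_comm : dAEs.all (fun e => eqW (e.1 ++ rAw) (rAw ++ e.1)) = true := by decide +kernel

theorem dBEs_ok : tabsOK dBEs = true := by decide +kernel
theorem dBEs_closed : tabsClosed (dBEs.map Prod.snd) = true := by decide +kernel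
theorem dBEs_nodup : (dBEs.map Prod.snd).Nodup := by decide +kernel
theorem dBEs_comm : dBEs.all (fun e => eqW (e.1 ++ rBw) (rBw ++ e.1)) = true := by decide +kernel

noncomputable def DA : Subgroup ↥M24 := tabsSubgroup M24 dAEs dAEs_ok dAEs_closed

noncomputable def DB : Subgroup ↥M24 := tabsSubgroup M24 dBEs dBEs_ok dBEs_closed

theorem card_DA : Nat.card DA = 8 :=
  card_tabsSubgroup M24 dAEs dAEs_ok dAEs_closed (fun e _ => wordPerm_mem_M24 _) dAEs_nodup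

theorem card_DB : Nat.card DB = 8 :=
  card_tabsSubgroup M24 dBEs dBEs_ok dBEs_closed (fun e _ => wordPerm_mem_M24 _) dBEs_nodup

theorem DA_comm : ∀ v ∈ DA, Commute v rA := by
  rintro v ⟨e, he, hv⟩
  apply Subtype.ext
  rw [Subgroup.coe_mul, Subgroup.coe_mul, hv]
  show wordPerm e.1 * wordPerm rAw = wordPerm rAw * wordPerm e.1
  rw [← wordPerm_append, ← wordPerm_append]
  exact wordPerm_eq_of_eqW (List.all_eq_true.1 dAEs_comm e he)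

theorem DB_comm : ∀ v ∈ DB, Commute v rB := by
  rintro v ⟨e, he, hv⟩
  apply Subtype.ext
  rw [Subgroup.coe_mul, Subgroup.coe_mul, hv]
  show wordPerm e.1 * wordPerm rBw = wordPerm rBw * wordPerm e.1
  rw [← wordPerm_append, ← wordPerm_append]
  exact wordPerm_eq_of_eqW (List.all_eq_true.1 dBEs_comm e he)

/-! ### The group of order 27 -/

/-- `(word, tag, conjugator)`: the conjugator maps `1`, `rA` or `rB` (tag `0`, `1`, `2`) to the word. -/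
def pData : List (List ℕ × ℕ × List ℕ) := [
  ([], 0, []),
  ([0, 3, 1, 4, 4, 0, 3, 0, 0, 0, 3, 3, 1, 4, 1, 1, 1, 3, 1, 3, 0, 4, 1, 1, 1, 3, 1, 3, 1, 4, 1, 3, 3, 4, 1, 4, 1, 1, 3, 3, 1, 3, 0, 4, 1, 4, 1, 4], 1, [0, 0, 2, 3, 1, 3, 1, 1, 4, 1, 4, 1, 4, 1, 4, 1, 3, 3, 0, 0, 3, 0, 3, 1, 3, 0, 3, 0, 3, 1, 4, 0, 4, 4, 0, 0, 3, 0, 3]),
  ([3, 3, 1, 3, 3, 0, 0, 1, 1, 3, 1, 4, 1, 1, 3, 3, 1, 3, 1, 1, 1, 4, 0, 4, 1, 1, 1, 1, 4], 1, [0, 0, 2, 3, 1, 0, 0, 3, 1, 4, 0, 4, 1, 4, 1, 3, 0, 4, 0, 4, 0, 3, 4, 2, 1, 4, 1, 1, 3, 0, 0, 0, 0, 3, 3, 1, 2, 4, 1, 4, 1, 1, 3, 3, 1, 3, 0, 4, 1, 4, 1, 4]),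
  ([2, 1, 0, 0, 3, 0, 3, 0, 3, 3, 1, 4, 4, 1, 1, 1, 1, 1, 1, 4, 0, 4, 4, 1, 1, 1, 3, 1, 3, 1, 4, 1, 3, 3, 4, 1, 4, 1, 1, 3, 3, 1, 3, 0, 4, 1, 4, 1, 4], 1, [2, 1, 0, 3, 0, 0, 4, 0, 4, 1, 3, 0, 4, 4, 1, 3, 3, 0, 3, 0, 3, 1, 4, 0, 4, 4, 0, 0, 3, 0, 3]),
  ([2, 1, 4, 4, 0, 0, 0, 0, 4, 1, 1, 4, 4, 1, 1, 1, 4, 1, 3, 0, 0, 1, 3, 2, 0, 3, 0, 2, 3, 1, 1, 4, 1, 4, 1, 2], 1, [2, 1, 3, 3, 2, 0, 0, 0, 3, 1, 1, 2, 3, 3, 0, 4, 4, 0, 3, 3, 0, 0, 3, 0, 4, 1, 3, 3, 0, 3, 0, 3, 1, 4, 0, 4, 4, 0, 0, 3, 0, 3]),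
  ([2, 1, 1, 4, 4, 1, 4, 1, 1, 1, 4, 1, 1, 3, 1, 1, 3, 0, 3, 0, 3, 1, 4, 0, 4, 4, 0, 0, 3, 0, 3], 1, [2, 1, 1, 3, 1, 4, 0, 3, 3, 0, 3, 3, 3, 0, 4, 4, 0, 3, 3, 0, 0, 3, 0, 4, 1, 3, 3, 0, 3, 0, 3, 1, 4, 0, 4, 4, 0, 0, 3, 0, 3]),
  ([2, 1, 4, 0, 2, 1, 4, 0, 1, 1, 4, 4, 0, 3, 0, 0, 4, 1, 4, 1, 1, 1, 3, 1, 1, 3, 1, 4, 1, 1, 3, 3, 4, 1, 1, 1, 3, 1, 3, 1, 4, 1, 3, 3, 3, 0, 3, 0, 3, 1, 4, 0, 4, 4, 0, 0, 3, 0, 3], 1, [2, 4, 1, 3, 3, 1, 3, 1, 4, 0, 3, 3, 0, 3, 3, 4, 4, 0, 4, 0, 4, 0, 0, 0, 4, 0, 4, 4, 3, 0, 3, 0, 3, 1, 4, 0, 4, 4, 0, 0, 3, 0, 3]),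
  ([2, 1, 4, 0, 2, 1, 4, 0, 1, 1, 4, 4, 0, 3, 4, 1, 1, 4, 1, 4, 4, 1, 1, 0, 0, 0, 0, 0, 4, 0, 0, 0, 0, 3, 1, 3, 2, 0, 3, 0, 2, 3, 1, 1, 4, 1, 4, 1, 2, 4, 1, 4, 1, 1, 3, 3, 1, 3, 0, 4, 1, 4, 1, 4], 2, [2, 4, 1, 4, 4, 1, 4, 1, 4, 1, 4, 0, 3, 3, 1, 4, 1, 1, 1, 3, 1, 3, 0, 4, 4, 0, 4, 0, 4, 0, 0, 0, 4, 0, 4, 4]),
  ([2, 1, 4, 0, 2, 1, 4, 0, 1, 1, 4, 4, 0, 3, 4, 0, 3, 1, 1, 1, 1, 3, 1, 3, 0, 4, 4, 1, 1, 1, 4, 1, 3, 1, 1, 1, 4, 0, 4, 1, 1, 1, 1, 4, 3, 0, 3, 0, 3, 1, 4, 0, 4, 4, 0, 0, 3, 0, 3], 2, [2, 4, 1, 4, 1, 4, 1, 4, 1, 4, 0, 0, 0, 0, 0, 4, 0, 0, 0, 4, 1, 4, 1]),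
  ([2, 1, 1, 2, 1, 3, 1, 0, 0, 0, 3, 1, 1, 3, 1, 3, 3, 0, 0, 3, 1, 4, 0, 3, 3, 1, 4, 1, 1, 3, 0, 0, 0, 0], 1, [2, 1, 4, 0, 1, 1, 4, 4, 0, 3, 1, 4, 1, 4, 1, 4, 1, 4, 4, 1, 1, 1, 4, 1, 3, 0, 0, 3, 0, 3, 0, 3, 1, 4, 0, 4, 4, 0, 0, 3, 0, 3]),
  ([2, 1, 1, 2, 1, 3, 1, 0, 0, 0, 3, 1, 1, 0, 3, 1, 1, 1, 1, 3, 3, 3, 0, 0, 0, 3, 3, 1, 4, 0, 1, 3, 3, 1, 4, 0, 3, 0, 0, 0, 0], 2, [2, 1, 4, 0, 0, 3, 3, 1, 4, 1, 1, 1, 3, 1, 3, 0, 1, 3, 2, 0, 3, 0, 2, 3, 1, 1, 4, 1, 4, 1, 2]),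
  ([2, 1, 1, 2, 1, 3, 1, 0, 0, 0, 3, 1, 1, 0, 3, 1, 3, 3, 1, 3, 0, 0, 0, 0, 0, 0, 0, 4, 0, 0, 0, 4, 1, 4, 1, 4, 4, 0, 4, 0, 4, 0, 0, 0, 4, 0, 4, 4], 2, [2, 1, 4, 0, 3, 3, 0, 3, 1, 3, 3, 1, 3, 0, 0, 4, 1, 1, 1, 1, 3, 1, 1, 1, 1, 1, 1, 3, 3, 1, 4, 0, 3, 0, 0, 0, 0]),
  ([4, 0, 2, 1, 3, 1, 3, 3, 4, 4, 0, 0, 0, 0, 4, 1, 4, 1, 1, 1, 1, 3, 1, 1, 1, 1, 1, 4, 4, 0, 4, 0, 4, 0, 0, 0, 4, 0, 4, 4, 4, 1, 4, 1, 1, 3, 3, 1, 3, 0, 4, 1, 4, 1, 4], 1, [2, 1, 1, 0, 0, 4, 0, 4, 1, 4, 4, 1, 1, 1, 1, 1, 1, 4, 0, 4, 1, 3, 1, 1, 1, 4, 0, 4, 1, 1, 1, 1, 4, 4, 1, 4, 1, 1, 3, 3, 1, 3, 0, 4, 1, 4, 1, 4]),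
  ([4, 0, 2, 1, 3, 1, 3, 3, 1, 3, 0, 4, 0, 3, 1, 1, 4, 4, 1, 1, 1, 1, 3, 1, 1, 1, 1, 1, 1, 1, 1, 1, 4, 1, 3, 0, 4, 4, 0], 2, [2, 1, 1, 0, 0, 3, 1, 4, 0, 0, 0, 4, 1, 4, 1, 1, 1, 3, 0, 0, 0, 0, 0, 4, 0, 0, 0, 4, 1, 4, 1, 1, 4, 0, 3, 3, 1, 4, 1, 1, 3, 0, 0, 0, 0]),
  ([4, 0, 2, 1, 3, 1, 3, 3, 1, 1, 4, 0, 0, 3, 3, 0, 3, 3, 0, 4, 4, 0, 0, 4, 4, 0, 3, 1, 1, 4, 0, 0, 0, 0, 3, 1, 3, 0, 0, 4, 1, 1, 1, 3, 0, 3, 0, 3, 1, 4, 0, 4, 4, 0, 0, 3, 0, 3], 2, [2, 1, 1, 1, 3, 0, 4, 1, 1, 0, 0, 0, 0, 0, 4, 0, 0, 0, 0, 3]),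
  ([0, 3, 1, 2, 0, 0, 3, 1, 0, 0, 3, 1, 4, 0, 4, 3, 0, 4, 4, 0, 4, 1, 3, 1, 3, 1, 1, 4, 1, 1, 3, 0, 4, 4, 1, 1, 3, 1, 1, 1, 4, 0, 4, 1, 1, 1, 1, 4], 1, [2, 0, 4, 0, 4, 1, 1, 1, 1, 3, 1, 1, 1, 1, 1, 4, 2, 1, 4, 1, 1, 3, 0, 0, 0, 0, 3, 3, 1, 2, 4, 1, 4, 1, 1, 3, 3, 1, 3, 0, 4, 1, 4, 1, 4]),
  ([0, 3, 1, 2, 0, 0, 3, 1, 0, 0, 3, 1, 4, 0, 4, 1, 1, 4, 0, 0, 3, 3, 0, 1, 4, 1, 3, 0, 4, 0, 4, 0, 3, 4, 1, 1, 1, 3, 1, 3, 1, 4, 1, 3, 3, 4, 1, 4, 1, 1, 3, 3, 1, 3, 0, 4, 1, 4, 1, 4], 2, [2, 0, 4, 0, 1, 3, 0, 4, 1, 1, 0, 3, 1, 4, 4, 0, 3, 0, 0, 3, 3, 2, 0, 0, 0, 3, 1, 1, 2, 3, 4, 2, 1, 4, 1, 1, 3, 0, 0, 0, 0, 3, 3, 1, 2]),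
  ([0, 3, 1, 2, 0, 0, 3, 1, 0, 0, 3, 1, 4, 0, 4, 1, 4, 4, 1, 1, 3, 0, 0, 1, 4, 1, 3, 3, 0, 0, 3, 0, 3, 1, 1, 4, 0, 0, 0, 0, 3, 1, 3, 0, 0, 4, 1, 1, 1, 4, 1, 4, 1, 1, 3, 3, 1, 3, 0, 4, 1, 4, 1, 4], 2, [2, 0, 4, 0, 0, 3, 0, 3, 0, 4, 4, 3, 1, 3, 3, 0, 0, 3, 0, 0, 0, 0, 0, 4, 0, 0, 0, 0, 3, 1, 4, 0, 3, 3, 1, 4, 1, 1, 3, 0, 0, 0, 0]),
  ([4, 1, 2, 1, 4, 4, 1, 1, 1, 1, 1, 3, 3, 0, 0, 3, 1, 1, 1, 1, 3, 3, 3, 3, 2, 0, 0, 0, 3, 1, 1, 2, 3, 1, 3, 1, 1, 1, 4, 0, 4, 1, 1, 1, 1, 4, 3, 0, 3, 0, 3, 1, 4, 0, 4, 4, 0, 0, 3, 0, 3], 1, [2, 0, 0, 0, 1, 1, 4, 4, 0, 1, 3, 1, 4, 0, 3, 3, 0, 3, 3, 0, 3, 0, 0, 4, 0, 4, 1, 3, 0, 4, 4, 1, 3, 3, 0, 3, 0, 3, 1, 4, 0, 4, 4, 0, 0, 3, 0, 3]),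
  ([4, 1, 2, 1, 4, 4, 1, 1, 1, 1, 1, 3, 3, 0, 0, 0, 3, 0, 3, 0, 3, 3, 1, 1, 3, 1, 4, 0, 3, 3, 0, 3, 3, 4, 1, 1, 1, 3, 1, 3, 1, 4, 1, 3, 3, 4, 1, 4, 1, 1, 3, 3, 1, 3, 0, 4, 1, 4, 1, 4], 2, [2, 0, 0, 0, 3, 0, 0, 4, 1, 4, 1, 1, 1, 3, 4, 1, 1, 1, 1, 3, 1, 1, 1, 1, 1, 3, 0, 4, 4, 0, 3, 3, 0, 0, 3, 0, 4, 1, 3]),
  ([4, 1, 2, 1, 4, 4, 1, 1, 1, 1, 1, 3, 3, 0, 3, 0, 4, 4, 0, 4, 1, 3, 1, 4, 1, 1, 1, 3, 1, 3, 1, 4, 1, 3, 3, 4, 1, 4, 1, 1, 3, 3, 1, 3, 0, 4, 1, 4, 1, 4], 2, [2, 0, 0, 0, 4, 4, 0, 3, 1, 3, 3, 1, 3, 0, 0, 1, 4, 4, 1, 1, 1, 4, 1, 3, 0, 0, 3, 0, 4, 4, 0, 3, 3, 0, 0, 3, 0, 4, 1, 3]),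
  ([1, 3, 1, 2, 0, 3, 3, 0, 0, 4, 1, 4, 0, 4, 1, 3, 4, 1, 1, 1, 1, 3, 1, 1, 1, 1, 1, 1, 4, 0, 3, 3, 1, 4, 1, 1, 3, 0, 0, 0, 0], 1, [2, 4, 0, 0, 3, 1, 3, 1, 1, 4, 3, 3, 2, 0, 0, 0, 3, 1, 1, 2, 3, 4, 1, 4, 1, 1, 3, 3, 1, 3, 0, 4, 1, 4, 1, 4]),
  ([1, 3, 1, 2, 0, 3, 3, 0, 3, 1, 3, 3, 1, 3, 0, 0, 3, 3, 0, 4, 4, 0, 0, 4, 4, 0, 3, 1, 1, 4, 0, 3, 3, 1, 4, 1, 1, 3, 0, 0, 0, 0], 2, [2, 4, 0, 1, 3, 0, 4, 1, 1, 4, 1, 1, 4, 0, 0, 3, 3, 0, 3, 3, 2, 0, 0, 0, 3, 1, 1, 2, 3]),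
  ([1, 3, 1, 2, 0, 3, 3, 1, 4, 4, 1, 1, 3, 0, 0, 4, 4, 0, 0, 3, 0, 4, 0, 0, 1, 4, 0, 3, 3, 1, 4, 1, 1, 3, 0, 0, 0, 0, 4, 1, 4, 1, 1, 3, 3, 1, 3, 0, 4, 1, 4, 1, 4], 2, [2, 4, 0, 1, 1, 1, 1, 3, 3, 0, 4, 1, 1, 1, 1, 3, 1, 1, 1, 1, 1, 4, 4, 0, 4, 0, 4, 0, 0, 0, 4, 0, 4, 4]),
  ([0, 2, 4, 0, 0, 0, 0, 4, 1, 3, 0, 3, 3, 1, 4, 1, 1, 1, 3, 1, 3, 0, 1, 4, 0, 0, 0, 0, 3, 1, 3, 0, 0, 4, 1, 1, 1, 4, 1, 4, 1, 1, 3, 3, 1, 3, 0, 4, 1, 4, 1, 4], 1, [2, 0, 0, 3, 3, 0, 4, 0, 0, 0, 0, 0, 0, 4, 0, 0, 0, 0, 3, 3, 0, 3, 0, 3, 1, 4, 0, 4, 4, 0, 0, 3, 0, 3]),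
  ([0, 2, 0, 0, 3, 0, 3, 0, 3, 3, 1, 3, 3, 0, 4, 4, 0, 0, 4, 4, 0, 3, 1, 3, 0, 4, 4, 0, 3, 3, 0, 0, 3, 0, 4, 1, 3, 3, 0, 3, 0, 3, 1, 4, 0, 4, 4, 0, 0, 3, 0, 3], 1, [2, 0, 0, 3, 3, 0, 4, 0, 4, 1, 3, 1, 3, 1, 4, 0, 3, 0, 0, 3, 0, 0, 4, 0, 4, 1, 3, 0, 4, 4, 1, 3, 3, 0, 3, 0, 3, 1, 4, 0, 4, 4, 0, 0, 3, 0, 3]),
  ([0, 2, 1, 4, 1, 4, 1, 4, 4, 4, 0, 0, 3, 0, 4, 0, 0, 1, 3, 1, 1, 1, 4, 0, 4, 1, 1, 1, 1, 4, 4, 1, 4, 1, 1, 3, 3, 1, 3, 0, 4, 1, 4, 1, 4], 1, [2, 0, 0, 3, 3, 0, 4, 0, 4, 4, 1, 1, 1, 1, 1, 1, 4, 0, 4])]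

def pEs : List (List ℕ × ℕ) := [
  ([], 984818244535754528103549039458486304),
  ([0, 3, 1, 4, 4, 0, 3, 0, 0, 0, 3, 3, 1, 4, 1, 1, 1, 3, 1, 3, 0, 4, 1, 1, 1, 3, 1, 3, 1, 4, 1, 3, 3, 4, 1, 4, 1, 1, 3, 3, 1, 3, 0, 4, 1, 4, 1, 4], 966338196387988136961355425312873504),
  ([3, 3, 1, 3, 3, 0, 0, 1, 1, 3, 1, 4, 1, 1, 3, 3, 1, 3, 1, 1, 1, 4, 0, 4, 1, 1, 1, 1, 4], 959691983526194056019205112276996128),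
  ([2, 1, 0, 0, 3, 0, 3, 0, 3, 3, 1, 4, 4, 1, 1, 1, 1, 1, 1, 4, 0, 4, 4, 1, 1, 1, 3, 1, 3, 1, 4, 1, 3, 3, 4, 1, 4, 1, 1, 3, 3, 1, 3, 0, 4, 1, 4, 1, 4], 15141435945608064366671252158582497),
  ([2, 1, 4, 4, 0, 0, 0, 0, 4, 1, 1, 4, 4, 1, 1, 1, 4, 1, 3, 0, 0, 1, 3, 2, 0, 3, 0, 2, 3, 1, 1, 4, 1, 4, 1, 2], 6924445511284924908635549577257697),
  ([2, 1, 1, 4, 4, 1, 4, 1, 1, 1, 4, 1, 1, 3, 1, 1, 3, 0, 3, 0, 3, 1, 4, 0, 4, 4, 0, 0, 3, 0, 3], 21341673465959309303510923559164641),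
  ([2, 1, 4, 0, 2, 1, 4, 0, 1, 1, 4, 4, 0, 3, 0, 0, 4, 1, 4, 1, 1, 1, 3, 1, 1, 3, 1, 4, 1, 1, 3, 3, 4, 1, 1, 1, 3, 1, 3, 1, 4, 1, 3, 3, 3, 0, 3, 0, 3, 1, 4, 0, 4, 4, 0, 0, 3, 0, 3], 383794828072885917760190753414416774),
  ([2, 1, 4, 0, 2, 1, 4, 0, 1, 1, 4, 4, 0, 3, 4, 1, 1, 4, 1, 4, 4, 1, 1, 0, 0, 0, 0, 0, 4, 0, 0, 0, 0, 3, 1, 3, 2, 0, 3, 0, 2, 3, 1, 1, 4, 1, 4, 1, 2, 4, 1, 4, 1, 1, 3, 3, 1, 3, 0, 4, 1, 4, 1, 4], 378159210033467232097467815764173190),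
  ([2, 1, 4, 0, 2, 1, 4, 0, 1, 1, 4, 4, 0, 3, 4, 0, 3, 1, 1, 1, 1, 3, 1, 3, 0, 4, 4, 1, 1, 1, 4, 1, 3, 1, 1, 1, 4, 0, 4, 1, 1, 1, 1, 4, 3, 0, 3, 0, 3, 1, 4, 0, 4, 4, 0, 0, 3, 0, 3], 395185064839479405990685356251655558),
  ([2, 1, 1, 2, 1, 3, 1, 0, 0, 0, 3, 1, 1, 3, 1, 3, 3, 0, 0, 3, 1, 4, 0, 3, 3, 1, 4, 1, 1, 3, 0, 0, 0, 0], 513616589829704867344650477489951945),
  ([2, 1, 1, 2, 1, 3, 1, 0, 0, 0, 3, 1, 1, 0, 3, 1, 1, 1, 1, 3, 3, 3, 0, 0, 0, 3, 3, 1, 4, 0, 1, 3, 3, 1, 4, 0, 3, 0, 0, 0, 0], 501491115685968339495247542753710281),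
  ([2, 1, 1, 2, 1, 3, 1, 0, 0, 0, 3, 1, 1, 0, 3, 1, 3, 3, 1, 3, 0, 0, 0, 0, 0, 0, 0, 4, 0, 0, 0, 4, 1, 4, 1, 4, 4, 0, 4, 0, 4, 0, 0, 0, 4, 0, 4, 4], 509419359061716894722900879785449673),
  ([4, 0, 2, 1, 3, 1, 3, 3, 4, 4, 0, 0, 0, 0, 4, 1, 4, 1, 1, 1, 1, 3, 1, 1, 1, 1, 1, 4, 4, 0, 4, 0, 4, 0, 0, 0, 4, 0, 4, 4, 4, 1, 4, 1, 1, 3, 3, 1, 3, 0, 4, 1, 4, 1, 4], 278660046754020057352080282207030572),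
  ([4, 0, 2, 1, 3, 1, 3, 3, 1, 3, 0, 4, 0, 3, 1, 1, 4, 4, 1, 1, 1, 1, 3, 1, 1, 1, 1, 1, 1, 1, 1, 1, 4, 1, 3, 0, 4, 4, 0], 275764376249070594629295740117785900),
  ([4, 0, 2, 1, 3, 1, 3, 3, 1, 1, 4, 0, 0, 3, 3, 0, 3, 3, 0, 4, 4, 0, 0, 4, 4, 0, 3, 1, 1, 4, 0, 0, 0, 0, 3, 1, 3, 0, 0, 4, 1, 1, 1, 3, 0, 3, 0, 3, 1, 4, 0, 4, 4, 0, 0, 3, 0, 3], 256135202857111228562858936281743660),
  ([0, 3, 1, 2, 0, 0, 3, 1, 0, 0, 3, 1, 4, 0, 4, 3, 0, 4, 4, 0, 4, 1, 3, 1, 3, 1, 1, 4, 1, 1, 3, 0, 4, 4, 1, 1, 3, 1, 1, 1, 4, 0, 4, 1, 1, 1, 1, 4], 633039600094375218493353169477865069),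
  ([0, 3, 1, 2, 0, 0, 3, 1, 0, 0, 3, 1, 4, 0, 4, 1, 1, 4, 0, 0, 3, 3, 0, 1, 4, 1, 3, 0, 4, 0, 4, 0, 3, 4, 1, 1, 1, 3, 1, 3, 1, 4, 1, 3, 3, 4, 1, 4, 1, 1, 3, 3, 1, 3, 0, 4, 1, 4, 1, 4], 634032289339441420038480229871890029),
  ([0, 3, 1, 2, 0, 0, 3, 1, 0, 0, 3, 1, 4, 0, 4, 1, 4, 4, 1, 1, 3, 0, 0, 1, 4, 1, 3, 3, 0, 0, 3, 0, 3, 1, 1, 4, 0, 0, 0, 0, 3, 1, 3, 0, 0, 4, 1, 1, 1, 4, 1, 4, 1, 1, 3, 3, 1, 3, 0, 4, 1, 4, 1, 4], 629986067490061302161602298734989933),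
  ([4, 1, 2, 1, 4, 4, 1, 1, 1, 1, 1, 3, 3, 0, 0, 3, 1, 1, 1, 1, 3, 3, 3, 3, 2, 0, 0, 0, 3, 1, 1, 2, 3, 1, 3, 1, 1, 1, 4, 0, 4, 1, 1, 1, 1, 4, 3, 0, 3, 0, 3, 1, 4, 0, 4, 4, 0, 0, 3, 0, 3], 804380444655969393342247372781095343),
  ([4, 1, 2, 1, 4, 4, 1, 1, 1, 1, 1, 3, 3, 0, 0, 0, 3, 0, 3, 0, 3, 3, 1, 1, 3, 1, 4, 0, 3, 3, 0, 3, 3, 4, 1, 1, 1, 3, 1, 3, 1, 4, 1, 3, 3, 4, 1, 4, 1, 1, 3, 3, 1, 3, 0, 4, 1, 4, 1, 4], 793557124988002899326945710709555631),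
  ([4, 1, 2, 1, 4, 4, 1, 1, 1, 1, 1, 3, 3, 0, 3, 0, 4, 4, 0, 4, 1, 3, 1, 4, 1, 1, 1, 3, 1, 3, 1, 4, 1, 3, 3, 4, 1, 4, 1, 1, 3, 3, 1, 3, 0, 4, 1, 4, 1, 4], 815761530583543849326583054347917743),
  ([1, 3, 1, 2, 0, 3, 3, 0, 0, 4, 1, 4, 0, 4, 1, 3, 4, 1, 1, 1, 1, 3, 1, 1, 1, 1, 1, 1, 4, 0, 3, 3, 1, 4, 1, 1, 3, 0, 0, 0, 0], 569418989459330612972987106110543347),
  ([1, 3, 1, 2, 0, 3, 3, 0, 3, 1, 3, 3, 1, 3, 0, 0, 3, 3, 0, 4, 4, 0, 0, 4, 4, 0, 3, 1, 1, 4, 0, 3, 3, 1, 4, 1, 1, 3, 0, 0, 0, 0], 561342549780346008329484827193187827),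
  ([1, 3, 1, 2, 0, 3, 3, 1, 4, 4, 1, 1, 3, 0, 0, 4, 4, 0, 0, 3, 0, 4, 0, 0, 1, 4, 0, 3, 3, 1, 4, 1, 1, 3, 0, 0, 0, 0, 4, 1, 4, 1, 1, 3, 3, 1, 3, 0, 4, 1, 4, 1, 4], 543009905651546981018692420613186035),
  ([0, 2, 4, 0, 0, 0, 0, 4, 1, 3, 0, 3, 3, 1, 4, 1, 1, 1, 3, 1, 3, 0, 1, 4, 0, 0, 0, 0, 3, 1, 3, 0, 0, 4, 1, 1, 1, 4, 1, 4, 1, 1, 3, 3, 1, 3, 0, 4, 1, 4, 1, 4], 51497575917710582600991274340258839),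
  ([0, 2, 0, 0, 3, 0, 3, 0, 3, 3, 1, 3, 3, 0, 4, 4, 0, 0, 4, 4, 0, 3, 1, 3, 0, 4, 4, 0, 3, 3, 0, 0, 3, 0, 4, 1, 3, 3, 0, 3, 0, 3, 1, 4, 0, 4, 4, 0, 0, 3, 0, 3], 68074722038781781692305680128781335),
  ([0, 2, 1, 4, 1, 4, 1, 4, 4, 4, 0, 0, 3, 0, 4, 0, 0, 1, 3, 1, 1, 1, 4, 0, 4, 1, 1, 1, 1, 4, 4, 1, 4, 1, 1, 3, 3, 1, 3, 0, 4, 1, 4, 1, 4], 44554891281530151842023685791301655)]

/-- The representative word of a tag. -/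
def repW (t : ℕ) : List ℕ := if t = 0 then [] else if t = 1 then rAw else rBw

theorem pEs_ok : tabsOK pEs = true := by decide +kernel
theorem pEs_closed : tabsClosed (pEs.map Prod.snd) = true := by decide +kernel
theorem pEs_nodup : (pEs.map Prod.snd).Nodup := by decide +kernel
theorem pEs_fst : pEs.map Prod.fst = pData.map Prod.fst := by decide +kernel
theorem pData_ok : pData.all (fun e => eqW (e.2.2 ++ repW e.2.1) (e.1 ++ e.2.2)) = true := by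
  decide +kernel
theorem pData_count : (pData.map (fun e => e.2.1)) =
    [0, 1, 1, 1, 1, 1, 1, 2, 2, 1, 2, 2, 1, 2, 2, 1, 2, 2, 1, 2, 2, 1, 2, 2, 1, 1, 1] := by decide +kernel

abbrev P27 : Subgroup ↥M24 := tabsSubgroup M24 pEs pEs_ok pEs_closed

theorem card_P27 : Nat.card P27 = 27 :=
  card_tabsSubgroup M24 pEs pEs_ok pEs_closed (fun e _ => wordPerm_mem_M24 _) pEs_nodup

/-- The value of a class function at a word of the list. -/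
theorem classFun_pData {F : ↥M24 → ℂ} (hF : ∀ x g : ↥M24, F (g * x * g⁻¹) = F x)
    {e : List ℕ × ℕ × List ℕ} (he : e ∈ pData) : F (mk24 e.1) = F (mk24 (repW e.2.1)) := by
  have h := List.all_eq_true.1 pData_ok e he
  have h1 : mk24 e.1 = mk24 e.2.2 * mk24 (repW e.2.1) * (mk24 e.2.2)⁻¹ := by
    rw [eq_mul_inv_iff_mul_eq]
    apply Subtype.ext
    rw [Subgroup.coe_mul, Subgroup.coe_mul, mk24_coe, mk24_coe, mk24_coe, ← wordPerm_append,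
      ← wordPerm_append]
    exact (wordPerm_eq_of_eqW h).symm
  rw [h1, hF]

theorem sum_P27 [Fintype P27] (F : ↥M24 → ℂ) (hF : ∀ x g : ↥M24, F (g * x * g⁻¹) = F x) :
    ∑ u : P27, F (u : ↥M24) = F 1 + 14 * F rA + 12 * F rB := by
  let F' : Equiv.Perm GolayPt → ℂ := fun g => if h : g ∈ M24 then F ⟨g, h⟩ else 0
  have hF' : ∀ u : P27, F (u : ↥M24) = F' (((u : ↥M24)) : Equiv.Perm GolayPt) := by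
    intro u
    show _ = dite _ _ _
    rw [dif_pos (u : ↥M24).2]
  have hF'w : ∀ w : List ℕ, F' (wordPerm w) = F (mk24 w) := by
    intro w
    show dite _ _ _ = _
    rw [dif_pos (wordPerm_mem_M24 w)]
    rfl
  rw [Finset.sum_congr rfl (fun u _ => hF' u)]
  rw [show (∑ u : P27, F' (((u : ↥M24)) : Equiv.Perm GolayPt)) =
      (pEs.map (fun e => F' (wordPerm e.1))).sum from
    sum_tabsSubgroup M24 pEs pEs_ok pEs_closed (fun e _ => wordPerm_mem_M24 _) pEs_nodup F']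
  have h1 : pEs.map (fun e => F' (wordPerm e.1)) = (pEs.map Prod.fst).map (fun w => F' (wordPerm w)) := by
    rw [List.map_map]; rfl
  rw [h1, pEs_fst, List.map_map]
  have h2 : pData.map ((fun w => F' (wordPerm w)) ∘ Prod.fst) =
      (pData.map (fun e => e.2.1)).map (fun t => F (mk24 (repW t))) := by
    rw [List.map_map]
    apply List.map_congr_left
    intro e he
    simp only [Function.comp_apply]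
    rw [hF'w, classFun_pData hF he]
  rw [h2, pData_count]
  have e0 : mk24 (repW 0) = 1 := by
    apply Subtype.ext
    rw [mk24_coe, Subgroup.coe_one]
    rfl
  have e1 : mk24 (repW 1) = rA := rfl
  have e2 : mk24 (repW 2) = rB := rfl
  simp only [List.map_cons, List.map_nil, List.sum_cons, List.sum_nil, e0, e1, e2]
  ring

/-! ### The centralizers -/

def rAP : ℕ := 15141435945608064366671252158582497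

def rBP : ℕ := 22575204043597328606232684349492961

theorem rAP_ok : pkOK rAP rAw = true := by decide +kernel

theorem rBP_ok : pkOK rBP rBw = true := by decide +kernel

def ppA : List (List ℕ) := [[], [], [23], [1, 0], [], [2], [4], [5, 3]]

def ppB : List (List ℕ) := [[], [], [23], [1, 0], [], [2], [4, 3], []]

theorem ppA_ok : ppOK rAP ppA = true := by decide +kernel

theorem ppB_ok : ppOK rBP ppB = true := by decide +kernel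

set_option maxRecDepth 100000 in
theorem cntA : cnt rAP rAP ppA 7 0 idP = 1080 := by decide +kernel

set_option maxRecDepth 100000 in
theorem cntB : cnt rBP rBP ppB 7 0 idP = 504 := by decide +kernel

theorem card_centralizer_mk24 (w : List ℕ) :
    Nat.card (Subgroup.centralizer ({mk24 w} : Set ↥M24)) =
      Nat.card {c : Equiv.Perm GolayPt // c ∈ M24 ∧ c * wordPerm w = wordPerm w * c} := by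
  apply Nat.card_congr
  refine ⟨fun c => ⟨((c : ↥M24) : Equiv.Perm GolayPt), (c : ↥M24).2, ?_⟩,
    fun x => ⟨⟨x.1, x.2.1⟩, ?_⟩, fun c => rfl, fun x => rfl⟩
  · have := Subgroup.mem_centralizer_iff.1 c.2 (mk24 w) (Set.mem_singleton _)
    have h2 := congrArg (Subtype.val : ↥M24 → Equiv.Perm GolayPt) this
    exact h2.symm
  · rw [Subgroup.mem_centralizer_iff]
    intro y hy
    rw [Set.mem_singleton_iff] at hy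
    subst hy
    apply Subtype.ext
    exact x.2.2.symm

theorem card_centralizer_rA : Nat.card (Subgroup.centralizer ({rA} : Set ↥M24)) = 1080 := by
  unfold rA
  rw [card_centralizer_mk24, card_intertwiners rAP_ok rAP_ok ppA_ok, cntA]

theorem card_centralizer_rB : Nat.card (Subgroup.centralizer ({rB} : Set ↥M24)) = 504 := by
  unfold rB
  rw [card_centralizer_mk24, card_intertwiners rBP_ok rBP_ok ppB_ok, cntB]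

end D24

end Cfsg.Agent.Lib.H3.OneBlk
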