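import Mathlib
import Cfsg.Prelude.Def_Sporadic_a
import Cfsg.Agent.Lib.H27.M24CntP
import Cfsg.Agent.Lib.H27.C2B

/-!
# The centralizer of a fixed-point-free involution of `M24` is 2-constrained (helper3)

For the involution `tB` without fixed points (helper27's word `rBw`), the centralizer `C` in `M24` permutes the
six tetrads of a sextet (helper27), and the kernel `N` of this action has order 64 (counted with helper27's
tool) and contains its centralizer in `C`: it contains, for enough pairs of tetrads, an involution whose fixed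
points are the union of the two tetrads.
-/

set_option autoImplicit false

namespace Cfsg.Agent.Lib.H3.OneBlk

open Cfsg Cfsg.Agent.Lib.H28 Cfsg.Agent.Lib.H27 Cfsg.Agent.Lib.H27.M24NF Cfsg.Agent.Lib.H27.M24Cnt
  Cfsg.Agent.Lib.H27.M24CntP
open scoped Pointwise

namespace LocB

/-- The packed table of the involution. -/
def tbP : ℕ := 22905550945827948657697045989164119

theorem tbP_ok : pkOK tbP InvNF.rBw = true := by decide +kernel

def ppB : List (List ℕ) := [[], [], [23, 0], [], [1, 2], [], [3, 4], []]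

theorem ppB_ok : ppOK tbP ppB = true := by decide +kernel

/-- The index of the tetrad of each point. -/
def tetTab : ℕ := 213009793800953026383699217241636869

theorem tetTab_lt : ∀ k < 24, look tetTab k < 6 := by decide +kernel

theorem tetTab_spec : ∀ k < 24, ∀ i < 6,
    (look tetTab k == i) = (C2B.s0key.getD i 0).testBit k := by decide +kernel

/-- The tetrad of a point. -/
def tetOf (p : GolayPt) : ℕ := look tetTab (gIdx p)

theorem tetOf_lt (p : GolayPt) : tetOf p < 6 := tetTab_lt _ (gIdx_lt p)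

theorem tetOf_eq_iff (p : GolayPt) {i : ℕ} (hi : i < 6) :
    tetOf p = i ↔ p ∈ ptsMask (C2B.s0key.getD i 0) := by
  rw [mem_ptsMask, ← tetTab_spec _ (gIdx_lt p) i hi, beq_iff_eq]
  rfl

/-- The permutation fixes every tetrad. -/
def FixT (u : Equiv.Perm GolayPt) : Prop := ∀ p, tetOf (u p) = tetOf p

/-- The permutation permutes the tetrads. -/
def PermT (u : Equiv.Perm GolayPt) : Prop := ∀ p p', tetOf p = tetOf p' → tetOf (u p) = tetOf (u p')

def lfFix (a : ℕ) : Bool := (List.range 24).all (fun i => look tetTab (look a i) == look tetTab i)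

def qFix (b y : ℕ) : Bool := look tetTab b == look tetTab y

theorem lfFix_iff {a : ℕ} {u : Equiv.Perm GolayPt} (hu : Rep a u) : lfFix a = true ↔ FixT u := by
  unfold lfFix FixT tetOf
  rw [List.all_eq_true]
  constructor
  · intro h p
    have := h (gIdx p) (List.mem_range.2 (gIdx_lt p))
    rw [beq_iff_eq] at this
    rw [hu p]
    exact this
  · intro h i hi
    rw [List.mem_range] at hi
    rw [beq_iff_eq]
    have := h (gPt i)
    rw [hu (gPt i), gIdx_gPt hi] at this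
    exact this

theorem qFix_ok : ∀ u : Equiv.Perm GolayPt, FixT u → ∀ p, qFix (gIdx p) (gIdx (u p)) = true := by
  intro u hu p
  unfold qFix
  rw [beq_iff_eq]
  exact (hu p).symm

/-- The centralizing condition. -/
def A (c : Equiv.Perm GolayPt) : Prop := c ∈ M24 ∧ c * wordPerm InvNF.rBw = wordPerm InvNF.rBw * c

theorem s0key_get_mem {i : ℕ} (hi : i < 6) : C2B.s0key.getD i 0 ∈ C2B.s0key := by
  have : ∀ i < 6, C2B.s0key.getD i 0 ∈ C2B.s0key := by decide
  exact this i hi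

theorem s0key_mem_get {m : ℕ} (hm : m ∈ C2B.s0key) : ∃ i < 6, C2B.s0key.getD i 0 = m := by
  have : ∀ m ∈ C2B.s0key, ∃ i < 6, C2B.s0key.getD i 0 = m := by decide
  exact this m hm

/-- The centralizer of the involution permutes the tetrads (helper27). -/
theorem permT_of_A {c : Equiv.Perm GolayPt} (hc : A c) : PermT c := by
  intro p p' hpp
  have hS := C2B.centralizer_fix_s0 hc.1 hc.2
  have hi := tetOf_lt p
  set i := tetOf p with hidef
  have hp : p ∈ ptsMask (C2B.s0key.getD i 0) := (tetOf_eq_iff p hi).1 rfl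
  have hp' : p' ∈ ptsMask (C2B.s0key.getD i 0) := (tetOf_eq_iff p' hi).1 hpp.symm
  have hT : ptsMask (C2B.s0key.getD i 0) ∈ decL C2B.s0key := mem_decL.2 ⟨_, s0key_get_mem hi, rfl⟩
  have hcT : c • ptsMask (C2B.s0key.getD i 0) ∈ decL C2B.s0key := by
    rw [← hS]
    exact Finset.smul_mem_smul_finset hT
  obtain ⟨m, hm, hmT⟩ := mem_decL.1 hcT
  obtain ⟨j, hj, rfl⟩ := s0key_mem_get hm
  have h1 : c p ∈ ptsMask (C2B.s0key.getD j 0) := by
    rw [hmT]
    exact Finset.smul_mem_smul_finset hp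
  have h2 : c p' ∈ ptsMask (C2B.s0key.getD j 0) := by
    rw [hmT]
    exact Finset.smul_mem_smul_finset hp'
  rw [(tetOf_eq_iff _ hj).2 h1, (tetOf_eq_iff _ hj).2 h2]

/-- Involutions of the kernel whose fixed points are the union of two tetrads:
`(word, table, i, j)`. -/
def nEs : List (List ℕ × ℕ × ℕ × ℕ) := [
  ([0, 3, 0, 3, 0, 3, 3, 0, 3, 0, 3, 1, 4, 0, 4, 4, 0, 0, 3, 0, 3], 977839867786251717525204161457686560, 0, 5),
  ([0, 3, 1, 1, 1, 1, 4, 1, 1, 4, 1, 4, 4, 1, 1, 3, 1, 1, 4, 1, 1, 3, 0, 4, 4, 1], 973945644914022110970435173357822304, 1, 5),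
  ([3, 0, 2, 0, 4, 1, 0, 0, 0, 3, 1, 1, 4, 0, 0, 0, 0, 4, 1, 3, 3, 0, 0, 0, 3, 3, 1, 4, 0, 1, 3, 3, 1, 4, 0, 3, 0, 0, 0, 0], 766646788062330081291491915182737452, 0, 1),
  ([3, 0, 2, 0, 4, 1, 3, 1, 1, 4, 4, 0, 0, 3, 1, 1, 1, 1, 3, 3, 4, 1, 4, 1, 1, 3, 3, 1, 3, 0, 4, 1, 4, 1, 4], 766741782629524325326847706236625260, 2, 3),
  ([3, 0, 2, 0, 4, 1, 0, 3, 1, 3, 1, 1, 4, 4, 1, 1, 4, 1, 4, 4, 1, 1, 0, 3, 0, 3, 0, 3, 0, 3, 0, 0, 4, 0, 4, 1, 3, 0, 4, 4, 1, 3], 777031381817206670248124677818068236, 2, 4),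
  ([3, 0, 2, 0, 4, 1, 3, 4, 1, 1, 4, 1, 4, 4, 1, 1, 1, 3, 2, 0, 3, 0, 2, 3, 1, 1, 4, 1, 4, 1, 2], 777126376383721299908040032462701644, 3, 4)]

theorem nEs_ok : nEs.all (fun e => pkOK e.2.1 e.1 && lfFix e.2.1 && basePts.all (chk tbP tbP e.2.1) &&
    (List.range 24).all (fun k => (look e.2.1 k == k) ==
      (look tetTab k == e.2.2.1 || look tetTab k == e.2.2.2))) = true := by
  decide +kernel

theorem nEs_pairs : ∀ i < 6, ∃ e ∈ nEs, ∃ e' ∈ nEs, (e.2.2.1 = i ∨ e.2.2.2 = i) ∧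
    (e'.2.2.1 = i ∨ e'.2.2.2 = i) ∧
    ∀ x < 6, (x = e.2.2.1 ∨ x = e.2.2.2) → (x = e'.2.2.1 ∨ x = e'.2.2.2) → x = i := by
  decide +kernel

theorem nEs_spec {e : List ℕ × ℕ × ℕ × ℕ} (he : e ∈ nEs) :
    A (wordPerm e.1) ∧ FixT (wordPerm e.1) ∧
      ∀ p, wordPerm e.1 p = p ↔ (tetOf p = e.2.2.1 ∨ tetOf p = e.2.2.2) := by
  have h := List.all_eq_true.1 nEs_ok e he
  rw [Bool.and_eq_true, Bool.and_eq_true, Bool.and_eq_true] at h
  have hr := rep_of_pkOK h.1.1.1
  have hb := rep_of_pkOK tbP_ok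
  refine ⟨⟨wordPerm_mem_M24 _, (leaf_iff hb hb hr (wordPerm_mem_M24 _) (wordPerm_mem_M24 _)
    (wordPerm_mem_M24 _)).1 h.1.2⟩, (lfFix_iff hr).1 h.1.1.2, ?_⟩
  intro p
  have h3 := List.all_eq_true.1 h.2 (gIdx p) (List.mem_range.2 (gIdx_lt p))
  rw [beq_iff_eq] at h3
  have h4 : wordPerm e.1 p = p ↔ look e.2.1 (gIdx p) = gIdx p := by
    rw [← hr p]
    exact ⟨fun h => by rw [h], fun h => gIdx_injective h⟩
  rw [h4]
  unfold tetOf
  rw [← beq_iff_eq, h3, Bool.or_eq_true, beq_iff_eq, beq_iff_eq]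

/-- The permutation commutes with the listed involutions. -/
def CommN (u : Equiv.Perm GolayPt) : Prop := ∀ e ∈ nEs, u * wordPerm e.1 = wordPerm e.1 * u

/-- A permutation commuting with the listed involutions fixes every tetrad. -/
theorem fixT_of_commN {c : Equiv.Perm GolayPt} (hn : CommN c) : FixT c := by
  intro p
  obtain ⟨e, he, e', he', h1, h2, h3⟩ := nEs_pairs (tetOf p) (tetOf_lt p)
  have key : ∀ e ∈ nEs, (e.2.2.1 = tetOf p ∨ e.2.2.2 = tetOf p) →
      (tetOf (c p) = e.2.2.1 ∨ tetOf (c p) = e.2.2.2) := by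
    intro e he h
    obtain ⟨_, _, hfix⟩ := nEs_spec he
    rw [← hfix]
    have hp : wordPerm e.1 p = p := (hfix p).2 (by rcases h with h | h <;> [left; right] <;> exact h.symm)
    have := congrArg (fun f : Equiv.Perm GolayPt => f p) (hn e he)
    simp only [Equiv.Perm.mul_apply] at this
    rw [hp] at this
    exact this.symm
  exact h3 _ (tetOf_lt _) (key e he h1) (key e' he' h2)

/-! ### The count -/

set_option maxRecDepth 100000 in
theorem cnt5 : cntP lfFix qFix tbP tbP ppB 7 0 idP = 64 := by decide +kernel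

theorem card_A_fix : Nat.card {c : Equiv.Perm GolayPt // A c ∧ FixT c} = 64 := by
  unfold A
  rw [card_intertwinersP (P := FixT) (lf := lfFix) (q := qFix) (fun a u _ hu => lfFix_iff hu)
    qFix_ok tbP_ok tbP_ok ppB_ok, cnt5]

/-- The permutations fixing every tetrad. -/
def fixTSub : Subgroup (Equiv.Perm GolayPt) where
  carrier := {u | FixT u}
  mul_mem' := by
    intro a b ha hb p
    rw [Equiv.Perm.mul_apply, ha, hb]
  one_mem' := fun p => rfl
  inv_mem' := by
    intro a ha p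
    have := ha (a⁻¹ p)
    rw [Equiv.Perm.inv_def, Equiv.apply_symm_apply] at this
    exact this.symm

theorem mem_fixTSub {u : Equiv.Perm GolayPt} : u ∈ fixTSub ↔ FixT u := Iff.rfl

end LocB

end Cfsg.Agent.Lib.H3.OneBlk
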