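import Mathlib
import Cfsg.Prelude.Def_Sporadic_a
import Cfsg.Agent.Lib.H27.InvClasses
import Cfsg.Agent.Lib.H28.M24Octad
import Cfsg.Agent.Lib.H3.OneBlk.Vanish
import Cfsg.Agent.Lib.H3.OneBlk.M22Loc
import Cfsg.Agent.Lib.H3.OneBlk.M24LocB

/-!
# Involution centralizers of `M24` are 2-constrained (helper3)

An involution of `M24` either fixes an octad pointwise, and then the pointwise stabilizer of the octad is a
self-centralizing normal 2-subgroup of its centralizer, or has no fixed point, and then it is conjugate to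
the involution treated in `M24LocB`.
-/

set_option autoImplicit false

namespace Cfsg.Agent.Lib.H3.OneBlk

open Cfsg Cfsg.Agent.Lib.H28 Cfsg.Agent.Lib.H27
open scoped Pointwise

/-- The local condition at one element. -/
def TwoConstrainedAt {G : Type*} [Group G] (t : G) : Prop :=
  ∃ Q : Subgroup (Subgroup.centralizer ({t} : Set G)), Q.Normal ∧ IsPGroup 2 Q ∧
    Subgroup.centralizer (Q : Set (Subgroup.centralizer ({t} : Set G))) ≤ Q

/-- The local condition is invariant under conjugation. -/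
theorem twoConstrainedAt_conj {G : Type*} [Group G] (t k : G) (h : TwoConstrainedAt t) :
    TwoConstrainedAt (k * t * k⁻¹) := by
  obtain ⟨Q, hQn, hQp, hQc⟩ := h
  have hmem : ∀ x : Subgroup.centralizer ({t} : Set G),
      k * (x : G) * k⁻¹ ∈ Subgroup.centralizer ({k * t * k⁻¹} : Set G) := by
    intro x
    rw [Subgroup.mem_centralizer_singleton_iff]
    have hx : (x : G) * t = t * (x : G) := Subgroup.mem_centralizer_singleton_iff.1 x.2
    calc k * (x : G) * k⁻¹ * (k * t * k⁻¹) = k * ((x : G) * t) * k⁻¹ := by group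
      _ = k * (t * (x : G)) * k⁻¹ := by rw [hx]
      _ = k * t * k⁻¹ * (k * (x : G) * k⁻¹) := by group
  let f : Subgroup.centralizer ({t} : Set G) →* Subgroup.centralizer ({k * t * k⁻¹} : Set G) :=
    { toFun := fun x => ⟨k * (x : G) * k⁻¹, hmem x⟩
      map_one' := by
        apply Subtype.ext
        show k * ((1 : Subgroup.centralizer ({t} : Set G)) : G) * k⁻¹ = 1
        rw [Subgroup.coe_one, mul_one, mul_inv_cancel]
      map_mul' := by
        intro a b
        apply Subtype.ext
        show k * ((a * b : Subgroup.centralizer ({t} : Set G)) : G) * k⁻¹ =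
          (k * (a : G) * k⁻¹) * (k * (b : G) * k⁻¹)
        rw [Subgroup.coe_mul]
        group }
  have hf : ∀ x, ((f x : Subgroup.centralizer ({k * t * k⁻¹} : Set G)) : G) = k * (x : G) * k⁻¹ :=
    fun _ => rfl
  have hinj : Function.Injective f := by
    intro a b hab
    have h1 := congrArg (Subtype.val : Subgroup.centralizer ({k * t * k⁻¹} : Set G) → G) hab
    rw [hf, hf] at h1
    apply Subtype.ext
    exact mul_left_cancel (mul_right_cancel h1)
  have hsurj : Function.Surjective f := by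
    intro y
    have hy : (y : G) * (k * t * k⁻¹) = (k * t * k⁻¹) * (y : G) :=
      Subgroup.mem_centralizer_singleton_iff.1 y.2
    have hx : k⁻¹ * (y : G) * k ∈ Subgroup.centralizer ({t} : Set G) := by
      rw [Subgroup.mem_centralizer_singleton_iff]
      calc k⁻¹ * (y : G) * k * t = k⁻¹ * ((y : G) * (k * t * k⁻¹)) * k := by group
        _ = k⁻¹ * ((k * t * k⁻¹) * (y : G)) * k := by rw [hy]
        _ = t * (k⁻¹ * (y : G) * k) := by group
    refine ⟨⟨_, hx⟩, ?_⟩
    apply Subtype.ext
    rw [hf]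
    show k * (k⁻¹ * (y : G) * k) * k⁻¹ = (y : G)
    group
  refine ⟨Q.map f, hQn.map f hsurj, hQp.map f, ?_⟩
  intro c' hc'
  obtain ⟨c, rfl⟩ := hsurj c'
  refine Subgroup.mem_map_of_mem f (hQc ?_)
  rw [Subgroup.mem_centralizer_iff]
  intro q hq
  apply hinj
  rw [map_mul, map_mul]
  exact Subgroup.mem_centralizer_iff.1 hc' (f q) (Subgroup.mem_map_of_mem f hq)

/-- The case of an involution fixing an octad pointwise. -/
theorem twoConstrainedAt_octad (t : ↥M24) (hoct : (Finset.univ.filter
    (fun p => (t : Equiv.Perm GolayPt) p = p)) ∈ octads) : TwoConstrainedAt t := by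
  classical
  have htM : (t : Equiv.Perm GolayPt) ∈ M24 := t.2
  set o : Finset GolayPt := Finset.univ.filter (fun p => (t : Equiv.Perm GolayPt) p = p) with ho
  have hmemo : ∀ p, p ∈ o ↔ (t : Equiv.Perm GolayPt) p = p := by
    intro p; rw [ho, Finset.mem_filter]; simp
  set E : Subgroup (Equiv.Perm GolayPt) :=
    M24 ⊓ fixingSubgroup (Equiv.Perm GolayPt) (o : Set GolayPt) with hE
  have hEsq : ∀ g ∈ E, g * g = 1 := (octad_pointwise_stabilizer hoct).2
  have hEcomm : ∀ a ∈ E, ∀ b ∈ E, a * b = b * a := by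
    intro a ha b hb
    have h1 := hEsq a ha
    have h2 := hEsq b hb
    have h3 := hEsq _ (E.mul_mem ha hb)
    have ha' : a⁻¹ = a := inv_eq_of_mul_eq_one_right h1
    have hb' : b⁻¹ = b := inv_eq_of_mul_eq_one_right h2
    have h4 : (a * b)⁻¹ = a * b := inv_eq_of_mul_eq_one_right h3
    rw [mul_inv_rev, ha', hb'] at h4
    exact h4.symm
  have htE : (t : Equiv.Perm GolayPt) ∈ E := by
    rw [hE, Subgroup.mem_inf, mem_fixingSubgroup_iff]
    refine ⟨htM, ?_⟩
    intro p hp
    exact (hmemo p).1 (Finset.mem_coe.1 hp)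
  set C := Subgroup.centralizer ({t} : Set ↥M24) with hC
  let φ : ↥C →* Equiv.Perm GolayPt := (M24.subtype).comp C.subtype
  have hφ : ∀ c : ↥C, φ c = ((c : ↥M24) : Equiv.Perm GolayPt) := fun _ => rfl
  have hcomm : ∀ c : ↥C, φ c * (t : Equiv.Perm GolayPt) = (t : Equiv.Perm GolayPt) * φ c := by
    intro c
    have := Subgroup.mem_centralizer_iff.1 c.2 t (Set.mem_singleton t)
    have h2 := congrArg (Subtype.val : ↥M24 → Equiv.Perm GolayPt) this
    exact h2.symm
  have hφM : ∀ c : ↥C, φ c ∈ M24 := fun c => (c : ↥M24).2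
  refine ⟨E.comap φ, ?_, ?_, ?_⟩
  · -- normal
    constructor
    intro q hq c
    rw [Subgroup.mem_comap] at hq ⊢
    rw [map_mul, map_mul, map_inv]
    rw [hE, Subgroup.mem_inf, mem_fixingSubgroup_iff] at hq ⊢
    refine ⟨M24.mul_mem (M24.mul_mem (hφM c) hq.1) (M24.inv_mem (hφM c)), ?_⟩
    intro p hp
    have hp' : (t : Equiv.Perm GolayPt) p = p := (hmemo p).1 (Finset.mem_coe.1 hp)
    have h1 : (φ c)⁻¹ p ∈ (o : Set GolayPt) := by
      rw [Finset.mem_coe, hmemo]
      have h2 : (φ c * (t : Equiv.Perm GolayPt)) ((φ c)⁻¹ p) =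
          ((t : Equiv.Perm GolayPt) * φ c) ((φ c)⁻¹ p) := by rw [hcomm c]
      have hinv : (φ c) ((φ c)⁻¹ p) = p := by
        rw [Equiv.Perm.inv_def, Equiv.apply_symm_apply]
      rw [Equiv.Perm.mul_apply, Equiv.Perm.mul_apply, hinv, hp'] at h2
      exact (φ c).injective (h2.trans hinv.symm)
    have h4 := hq.2 _ h1
    rw [Equiv.Perm.smul_def] at h4 ⊢
    rw [Equiv.Perm.mul_apply, Equiv.Perm.mul_apply, h4, Equiv.Perm.inv_def, Equiv.apply_symm_apply]
  · -- 2-group
    intro q
    refine ⟨1, ?_⟩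
    rw [pow_one, sq]
    apply Subtype.ext
    apply Subtype.ext
    apply Subtype.ext
    have := hEsq _ q.2
    exact this
  · -- self-centralizing
    intro c hc
    rw [Subgroup.mem_comap, hE, Subgroup.mem_inf]
    refine ⟨hφM c, ?_⟩
    apply centralizer_octad_le hoct (hφM c)
    intro e he
    have heM : e ∈ M24 := (Subgroup.mem_inf.1 he).1
    have heC : (⟨e, heM⟩ : ↥M24) ∈ C := by
      rw [hC, Subgroup.mem_centralizer_iff]
      intro x hx
      rw [Set.mem_singleton_iff] at hx
      subst hx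
      apply Subtype.ext
      exact hEcomm _ htE e he
    have heQ : (⟨⟨e, heM⟩, heC⟩ : ↥C) ∈ (E.comap φ : Subgroup ↥C) := by
      rw [Subgroup.mem_comap]
      exact he
    have h1 := Subgroup.mem_centralizer_iff.1 hc _ heQ
    have h2 := congrArg φ h1
    rw [map_mul, map_mul] at h2
    exact h2.symm

/-- The fixed-point-free involution of helper27, as an element of `M24`. -/
noncomputable def tB24 : ↥M24 := ⟨wordPerm InvNF.rBw, wordPerm_mem_M24 _⟩

theorem twoConstrainedAt_tB : TwoConstrainedAt tB24 := by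
  classical
  set C := Subgroup.centralizer ({tB24} : Set ↥M24) with hC
  let φ : ↥C →* Equiv.Perm GolayPt := (M24.subtype).comp C.subtype
  have hA : ∀ c : ↥C, LocB.A (φ c) := by
    intro c
    refine ⟨(c : ↥M24).2, ?_⟩
    have := Subgroup.mem_centralizer_iff.1 c.2 tB24 (Set.mem_singleton _)
    have h2 := congrArg (Subtype.val : ↥M24 → Equiv.Perm GolayPt) this
    exact h2.symm
  have hlift : ∀ x : Equiv.Perm GolayPt, LocB.A x → ∃ c : ↥C, φ c = x := by
    intro x hx
    have hxC : (⟨x, hx.1⟩ : ↥M24) ∈ C := by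
      rw [hC, Subgroup.mem_centralizer_iff]
      intro y hy
      rw [Set.mem_singleton_iff] at hy
      subst hy
      apply Subtype.ext
      exact hx.2.symm
    exact ⟨⟨⟨x, hx.1⟩, hxC⟩, rfl⟩
  have hφinj : Function.Injective φ := by
    intro a b hab
    apply Subtype.ext
    apply Subtype.ext
    exact hab
  refine ⟨LocB.fixTSub.comap φ, ?_, ?_, ?_⟩
  · -- normal
    constructor
    intro q hq c
    rw [Subgroup.mem_comap, LocB.mem_fixTSub] at hq ⊢
    rw [map_mul, map_mul, map_inv]
    intro p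
    have hperm := LocB.permT_of_A (hA c)
    have h1 := hq ((φ c)⁻¹ p)
    have h2 := hperm _ _ h1
    rw [Equiv.Perm.mul_apply, Equiv.Perm.mul_apply, h2, Equiv.Perm.inv_def, Equiv.apply_symm_apply]
  · -- 2-group
    have hcard : Nat.card (LocB.fixTSub.comap φ : Subgroup ↥C) = 2 ^ 6 := by
      rw [show (2 : ℕ) ^ 6 = 64 by norm_num, ← LocB.card_A_fix]
      apply Nat.card_congr
      refine ⟨fun q => ⟨φ (q : ↥C), hA _, q.2⟩, fun x => ⟨(hlift x.1 x.2.1).choose, ?_⟩, ?_, ?_⟩
      · rw [Subgroup.mem_comap, (hlift x.1 x.2.1).choose_spec]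
        exact x.2.2
      · intro q
        apply Subtype.ext
        apply hφinj
        exact (hlift (φ (q : ↥C)) (hA _)).choose_spec
      · intro x
        apply Subtype.ext
        exact (hlift x.1 x.2.1).choose_spec
    exact IsPGroup.of_card hcard
  · -- self-centralizing
    intro c hc
    rw [Subgroup.mem_comap, LocB.mem_fixTSub]
    apply LocB.fixT_of_commN
    intro e he
    obtain ⟨hAe, hFe, _⟩ := LocB.nEs_spec he
    obtain ⟨n, hn⟩ := hlift _ hAe
    have hnQ : n ∈ (LocB.fixTSub.comap φ : Subgroup ↥C) := by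
      rw [Subgroup.mem_comap, hn]
      exact hFe
    have h1 := Subgroup.mem_centralizer_iff.1 hc n hnQ
    have h2 := congrArg φ h1
    rw [map_mul, map_mul, hn] at h2
    exact h2.symm

/-- Every involution centralizer of `M24` has a self-centralizing normal 2-subgroup. -/
theorem twoConstrained_M24 : TwoConstrained ↥M24 := by
  intro t ht
  have htM : (t : Equiv.Perm GolayPt) ∈ M24 := t.2
  have hto : orderOf (t : Equiv.Perm GolayPt) = 2 := by rw [Subgroup.orderOf_coe]; exact ht
  rcases InvNF.main.1 _ htM hto with h | h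
  · exact twoConstrainedAt_octad t h
  · obtain ⟨k, hk, hkt⟩ := InvNF.main.2.2.2 _ htM _ (wordPerm_mem_M24 InvNF.rBw) hto InvNF.rB_order
      ⟨fun _ => InvNF.rB_fpf, fun _ => h⟩
    have h1 : t = (⟨k, hk⟩ : ↥M24)⁻¹ * tB24 * ((⟨k, hk⟩ : ↥M24)⁻¹)⁻¹ := by
      apply Subtype.ext
      rw [Subgroup.coe_mul, Subgroup.coe_mul, Subgroup.coe_inv, Subgroup.coe_inv, Subgroup.coe_inv]
      show (t : Equiv.Perm GolayPt) = k⁻¹ * wordPerm InvNF.rBw * k⁻¹⁻¹
      rw [← hkt]
      group
    have h2 := twoConstrainedAt_conj tB24 (⟨k, hk⟩ : ↥M24)⁻¹ twoConstrainedAt_tB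
    rw [← h1] at h2
    exact h2

end Cfsg.Agent.Lib.H3.OneBlk
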