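import Mathlib
import Cfsg.Prelude.Def_Blocks
import Cfsg.Agent.Lib.H3.OneBlk.NoDefZero

/-!
# No character of 2-defect zero in a group with the local data of `M24` (helper3)

Abstract arithmetic: a group of order `244823040` with two non-conjugate real elements `rA`, `rB` of order 3,
each centralized by a group of order 8, with `|C(rA)| ≤ 1080`, `|C(rB)| ≤ 504`, and with a subgroup `P` of
order 27 containing 14 conjugates of `rA` and 12 conjugates of `rB`, has no irreducible character `χ` with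
`2^10 ∥ χ(1)` vanishing on all elements of even order.
-/

set_option autoImplicit false

namespace Cfsg.Agent.Lib.H3.OneBlk

open Cfsg Cfsg.Agent.Lib.H23 Cfsg.Agent.Lib.H24

variable {G : Type*} [Group G] [Fintype G]

/-- An element `r * u` with `r` of order 3 and `u ≠ 1` in a group of order 8 centralizing `r` has even
order. -/
theorem two_dvd_orderOf_mul {r : G} (hr3 : orderOf r = 3) (D : Subgroup G) (hD : Nat.card D = 8)
    (u : D) (hu : u ≠ 1) (hcomm : Commute (u : G) r) : 2 ∣ orderOf (r * (u : G)) := by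
  have h1 : orderOf (u : G) ∣ 8 := by
    rw [Subgroup.orderOf_coe, ← hD]
    exact orderOf_dvd_natCard u
  have h2 : orderOf (u : G) ≠ 1 := by
    rw [Ne, orderOf_eq_one_iff]
    intro h
    exact hu (Subtype.ext h)
  obtain ⟨k, hk, hk2⟩ := (Nat.dvd_prime_pow Nat.prime_two (m := 3)).1 (by norm_num; exact h1)
  have hk0 : k ≠ 0 := by
    rintro rfl
    exact h2 (by rw [hk2, pow_zero])
  have hcop : (orderOf r).Coprime (orderOf (u : G)) := by
    rw [hr3, hk2]
    exact Nat.Coprime.pow_right k (by norm_num)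
  rw [hcomm.symm.orderOf_mul_eq_mul_orderOf_of_coprime hcop, hk2]
  exact Dvd.dvd.mul_left (dvd_pow_self 2 hk0) _

/-- The value at `r` of a character vanishing on elements of even order is divisible by 8. -/
theorem eight_dvd_value (χ : IrrCharacter G)
    (hvan : ∀ x : G, 2 ∣ orderOf x → (χ : G → ℂ) x = 0)
    {r : G} (hr3 : orderOf r = 3) (D : Subgroup G) (hD : Nat.card D = 8)
    (hDr : ∀ v ∈ D, Commute v r) {z : ℤ} (hz : (χ : G → ℂ) r = (z : ℂ)) : (8 : ℤ) ∣ z := by
  classical
  have hchar : IsCharacter G (χ : G → ℂ) := Cfsg.Agent.Lib.L0.isCharacter_of_irr χ.2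
  letI : Fintype D := Fintype.ofFinite D
  have hint := isIntegral_average_char hchar D r (fun u hu => (hDr u hu).eq)
  have hsum : ∑ u : D, (χ : G → ℂ) (r * (u : G)) = (z : ℂ) := by
    rw [Finset.sum_eq_single (1 : D)]
    · show (χ : G → ℂ) (r * ((1 : D) : G)) = (z : ℂ)
      rw [Subgroup.coe_one, mul_one]; exact hz
    · intro u _ hu
      exact hvan _ (two_dvd_orderOf_mul hr3 D hD u hu (hDr u u.2))
    · intro h; exact absurd (Finset.mem_univ _) h
  rw [hsum, hD] at hint
  have : IsIntegral ℤ ((z : ℂ) / ((8 : ℕ) : ℂ)) := by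
    convert hint using 1
    rw [div_eq_inv_mul]
  exact_mod_cast int_dvd_of_isIntegral_div (by norm_num) this

theorem no_defect_zero24 (hcard : Nat.card G = 244823040) (χ : IrrCharacter G)
    (hdeg : (charDegree (χ : G → ℂ)).factorization 2 = 10)
    (hvan : ∀ x : G, 2 ∣ orderOf x → (χ : G → ℂ) x = 0)
    (rA rB : G) (hA3 : orderOf rA = 3) (hB3 : orderOf rB = 3)
    (hAreal : IsConj rA rA⁻¹) (hBreal : IsConj rB rB⁻¹) (hAB : ¬ IsConj rA rB)
    (DA : Subgroup G) (hDA : Nat.card DA = 8) (hDAr : ∀ v ∈ DA, Commute v rA)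
    (DB : Subgroup G) (hDB : Nat.card DB = 8) (hDBr : ∀ v ∈ DB, Commute v rB)
    (P : Subgroup G) [Fintype P] (hP27 : Nat.card P = 27)
    (hPsum : ∀ F : G → ℂ, (∀ x g : G, F (g * x * g⁻¹) = F x) →
      ∑ u : P, F (u : G) = F 1 + 14 * F rA + 12 * F rB)
    (hcA : Nat.card (Subgroup.centralizer ({rA} : Set G)) ≤ 1080)
    (hcB : Nat.card (Subgroup.centralizer ({rB} : Set G)) ≤ 504) : False := by
  classical
  set f : G → ℂ := (χ : G → ℂ) with hf
  have hcf := irr_isClassFunction χ
  have hchar : IsCharacter G f := Cfsg.Agent.Lib.L0.isCharacter_of_irr χ.2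
  set d := charDegree f with hd
  have hf1 : f 1 = (d : ℂ) := (charDegree_irr χ).symm
  obtain ⟨zA, hzA⟩ := exists_int_value_of_real_order_three χ rA hA3 hAreal
  obtain ⟨zB, hzB⟩ := exists_int_value_of_real_order_three χ rB hB3 hBreal
  have hconjA : ∀ x : G, IsConj rA x → f x = (zA : ℂ) := by
    intro x hx
    obtain ⟨k, hk⟩ := isConj_iff.1 hx
    rw [← hk, ← hzA]
    exact hcf rA k
  have hconjB : ∀ x : G, IsConj rB x → f x = (zB : ℂ) := by
    intro x hx
    obtain ⟨k, hk⟩ := isConj_iff.1 hx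
    rw [← hk, ← hzB]
    exact hcf rB k
  -- divisibility by 8
  have h8A : (8 : ℤ) ∣ zA := eight_dvd_value χ hvan hA3 DA hDA hDAr hzA
  have h8B : (8 : ℤ) ∣ zB := eight_dvd_value χ hvan hB3 DB hDB hDBr hzB
  -- the congruence modulo 27
  have h27 : (27 : ℤ) ∣ (d : ℤ) + 14 * zA + 12 * zB := by
    have hint := isIntegral_average_char hchar P 1 (fun u _ => by rw [mul_one, one_mul])
    have hsum : ∑ u : P, f (1 * (u : G)) = (((d : ℤ) + 14 * zA + 12 * zB : ℤ) : ℂ) := by
      simp only [one_mul]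
      rw [hPsum f (fun x g => hcf x g), hf1]
      have hzA' : f rA = (zA : ℂ) := hzA
      have hzB' : f rB = (zB : ℂ) := hzB
      rw [hzA', hzB']
      push_cast
      ring
    rw [hsum, hP27] at hint
    have : IsIntegral ℤ ((((d : ℤ) + 14 * zA + 12 * zB : ℤ) : ℂ) / ((27 : ℕ) : ℂ)) := by
      convert hint using 1
      rw [div_eq_inv_mul]
    exact_mod_cast int_dvd_of_isIntegral_div (by norm_num) this
  -- the norm bound
  have hnorm : (d : ℤ) ^ 2 + 226688 * zA ^ 2 + 485760 * zB ^ 2 ≤ 244823040 := by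
    have hsum := sum_normSq_irr χ
    rw [hcard] at hsum
    push_cast at hsum
    set SA : Finset G := Finset.univ.filter (fun g => IsConj rA g) with hSA
    set SB : Finset G := Finset.univ.filter (fun g => IsConj rB g) with hSB
    have hrA1 : rA ≠ 1 := by
      intro h
      rw [h, orderOf_one] at hA3
      norm_num at hA3
    have hrB1 : rB ≠ 1 := by
      intro h
      rw [h, orderOf_one] at hB3
      norm_num at hB3
    have h1SA : (1 : G) ∉ SA := by
      rw [hSA, Finset.mem_filter]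
      rintro ⟨_, h⟩
      exact hrA1 (isConj_one_left.1 h)
    have h1SB : (1 : G) ∉ SB := by
      rw [hSB, Finset.mem_filter]
      rintro ⟨_, h⟩
      exact hrB1 (isConj_one_left.1 h)
    have hdisj : Disjoint SA SB := by
      rw [Finset.disjoint_left]
      intro x hxA hxB
      rw [hSA, Finset.mem_filter] at hxA
      rw [hSB, Finset.mem_filter] at hxB
      exact hAB (hxA.2.trans hxB.2.symm)
    have hcardS : ∀ (r : G) (c : ℕ) (n : ℕ),
        Nat.card (Subgroup.centralizer ({r} : Set G)) ≤ c → c * n = 244823040 →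
        n ≤ (Finset.univ.filter (fun g => IsConj r g)).card := by
      intro r c n hc hcn
      have h1 := index_centralizer_eq_card_conj r
      have h2 : Nat.card {h : G // IsConj r h} = (Finset.univ.filter (fun g => IsConj r g)).card := by
        rw [Nat.card_eq_fintype_card, Fintype.card_subtype]
      rw [h2] at h1
      have h3 := Subgroup.card_mul_index (Subgroup.centralizer ({r} : Set G))
      rw [hcard, h1] at h3
      by_contra hlt
      rw [not_le] at hlt
      have h4 : Nat.card (Subgroup.centralizer ({r} : Set G)) *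
          (Finset.univ.filter (fun g => IsConj r g)).card ≤ c * (n - 1) :=
        Nat.mul_le_mul hc (by omega)
      have h5 : c * (n - 1) < c * n := by
        apply Nat.mul_lt_mul_of_pos_left
        · omega
        · rcases Nat.eq_zero_or_pos c with h | h
          · rw [h, zero_mul] at hcn; norm_num at hcn
          · exact h
      omega
    have hSAcard : 226688 ≤ SA.card := hcardS rA 1080 226688 hcA (by norm_num)
    have hSBcard : 485760 ≤ SB.card := hcardS rB 504 485760 hcB (by norm_num)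
    have hle : Complex.normSq (f 1) + (∑ g ∈ SA, Complex.normSq (f g) + ∑ g ∈ SB, Complex.normSq (f g))
        ≤ (244823040 : ℝ) := by
      rw [← hsum, ← Finset.sum_union hdisj]
      have h1U : (1 : G) ∉ SA ∪ SB := by
        rw [Finset.mem_union]
        rintro (h | h)
        · exact h1SA h
        · exact h1SB h
      have e : Complex.normSq (f 1) + ∑ g ∈ SA ∪ SB, Complex.normSq (f g) =
          ∑ g ∈ insert 1 (SA ∪ SB), Complex.normSq (f g) :=
        (Finset.sum_insert (f := fun g => Complex.normSq (f g)) h1U).symm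
      rw [e]
      apply Finset.sum_le_sum_of_subset_of_nonneg (Finset.subset_univ _)
      intro g _ _
      exact Complex.normSq_nonneg _
    have hS2A : ∑ g ∈ SA, Complex.normSq (f g) = (SA.card : ℝ) * (zA : ℝ) ^ 2 := by
      have : ∀ g ∈ SA, Complex.normSq (f g) = (zA : ℝ) ^ 2 := by
        intro g hg
        rw [hSA, Finset.mem_filter] at hg
        rw [hconjA g hg.2]
        rw [show ((zA : ℂ)) = ((zA : ℝ) : ℂ) by push_cast; rfl, Complex.normSq_ofReal, sq]
      rw [Finset.sum_congr rfl this, Finset.sum_const, nsmul_eq_mul]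
    have hS2B : ∑ g ∈ SB, Complex.normSq (f g) = (SB.card : ℝ) * (zB : ℝ) ^ 2 := by
      have : ∀ g ∈ SB, Complex.normSq (f g) = (zB : ℝ) ^ 2 := by
        intro g hg
        rw [hSB, Finset.mem_filter] at hg
        rw [hconjB g hg.2]
        rw [show ((zB : ℂ)) = ((zB : ℝ) : ℂ) by push_cast; rfl, Complex.normSq_ofReal, sq]
      rw [Finset.sum_congr rfl this, Finset.sum_const, nsmul_eq_mul]
    have hf1' : Complex.normSq (f 1) = (d : ℝ) ^ 2 := by
      rw [hf1, show ((d : ℂ)) = ((d : ℝ) : ℂ) by push_cast; rfl, Complex.normSq_ofReal, sq]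
    rw [hS2A, hS2B, hf1'] at hle
    have hreal' : ((d : ℤ) ^ 2 + 226688 * zA ^ 2 + 485760 * zB ^ 2 : ℤ) ≤
        (d : ℤ) ^ 2 + ((SA.card : ℤ) * zA ^ 2 + (SB.card : ℤ) * zB ^ 2) := by
      have hA : (226688 : ℤ) ≤ (SA.card : ℤ) := by exact_mod_cast hSAcard
      have hB : (485760 : ℤ) ≤ (SB.card : ℤ) := by exact_mod_cast hSBcard
      nlinarith [sq_nonneg zA, sq_nonneg zB, mul_nonneg (sub_nonneg.2 hA) (sq_nonneg zA),
        mul_nonneg (sub_nonneg.2 hB) (sq_nonneg zB)]
    have hle' : ((d : ℤ) ^ 2 + ((SA.card : ℤ) * zA ^ 2 + (SB.card : ℤ) * zB ^ 2) : ℤ) ≤ 244823040 := by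
      have : (((d : ℤ) ^ 2 + ((SA.card : ℤ) * zA ^ 2 + (SB.card : ℤ) * zB ^ 2) : ℤ) : ℝ) ≤
          ((244823040 : ℤ) : ℝ) := by
        push_cast
        exact hle
      exact_mod_cast this
    exact le_trans hreal' hle'
  -- arithmetic
  have hd0 : d ≠ 0 := (charDegree_pos χ).ne'
  have h1024 : 2 ^ 10 ∣ d := by
    rw [Nat.prime_two.pow_dvd_iff_le_factorization hd0, hdeg]
  have h2048 : ¬ 2 ^ 11 ∣ d := by
    rw [Nat.prime_two.pow_dvd_iff_le_factorization hd0, hdeg]
    norm_num
  obtain ⟨k, hk⟩ := h1024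
  have hk15 : k ≤ 15 := by
    by_contra hlt
    rw [not_le] at hlt
    have : (16384 : ℤ) ≤ (d : ℤ) := by
      have : 16384 ≤ d := by rw [hk]; omega
      exact_mod_cast this
    nlinarith [sq_nonneg zA, sq_nonneg zB]
  have hkodd : k % 2 = 1 := by
    by_contra hne
    apply h2048
    have : k % 2 = 0 := by omega
    obtain ⟨j, hj⟩ := Nat.dvd_of_mod_eq_zero this
    exact ⟨j, by rw [hk, hj]; ring⟩
  obtain ⟨a, ha⟩ := h8A
  obtain ⟨b, hb⟩ := h8B
  have hdk : (d : ℤ) = 1024 * (k : ℤ) := by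
    have : d = 1024 * k := by rw [hk]; norm_num
    exact_mod_cast this
  rw [hdk, ha, hb] at hnorm h27
  have hk0 : (0 : ℤ) ≤ (k : ℤ) := Int.natCast_nonneg k
  have hk15' : (k : ℤ) ≤ 15 := by exact_mod_cast hk15
  have hkodd' : (k : ℤ) % 2 = 1 := by exact_mod_cast hkodd
  have ha1 : -4 ≤ a ∧ a ≤ 4 := by constructor <;> nlinarith [sq_nonneg b, sq_nonneg (k : ℤ)]
  have hb1 : -2 ≤ b ∧ b ≤ 2 := by constructor <;> nlinarith [sq_nonneg a, sq_nonneg (k : ℤ)]
  obtain ⟨ha1, ha2⟩ := ha1
  obtain ⟨hb1, hb2⟩ := hb1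
  generalize (k : ℤ) = K at *
  interval_cases K <;> simp at hkodd' <;> interval_cases a <;> interval_cases b <;> omega

end Cfsg.Agent.Lib.H3.OneBlk
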