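import Mathlib
import Cfsg.Prelude.Def_Blocks
import Cfsg.Prelude.Def_Sporadic_a
import Cfsg.Agent.Lib.H23.DefectZero
import Cfsg.Agent.Lib.H28.M24Order
import Cfsg.Agent.Lib.H3.OneBlk.Vanish
import Cfsg.Agent.Lib.H3.OneBlk.NoDefZero24
import Cfsg.Agent.Lib.H3.OneBlk.M24Loc
import Cfsg.Agent.Lib.H3.OneBlk.M24Data

/-!
# `M24` has a single 2-block (helper3)
-/

set_option autoImplicit false

namespace Cfsg.Agent.Lib.H3.OneBlk

open Cfsg Cfsg.Agent.Lib.H23 Cfsg.Agent.Lib.H24 Cfsg.Agent.Lib.H27 Cfsg.Agent.Lib.H28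

theorem factorization_card_M24 : (244823040 : ℕ).factorization 2 = 10 := by
  have h : (244823040 : ℕ) = 2 ^ 10 * 239085 := by norm_num
  rw [h, Nat.factorization_mul (by norm_num) (by norm_num), Nat.factorization_pow]
  have h2 : (239085 : ℕ).factorization 2 = 0 := Nat.factorization_eq_zero_of_not_dvd (by norm_num)
  simp [h2, Nat.Prime.factorization_self Nat.prime_two]

theorem mem_principalBlock_M24 (M : Ideal AlgInt) (hM : IsPModular 2 M)
    (χ : IrrCharacter ↥M24) : χ ∈ principalBlock M ↥M24 := by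
  classical
  letI : Fintype ↥M24 := Fintype.ofFinite _
  by_contra hχ
  have hd := defect_zero_of_not_principal hM twoConstrained_M24 χ hχ
  have hcard : Nat.card ↥M24 = 244823040 := card_M24
  rw [hcard, factorization_card_M24] at hd
  have hvan : ∀ x : ↥M24, 2 ∣ orderOf x → (χ : ↥M24 → ℂ) x = 0 := by
    obtain ⟨n, ρ, hirr, hρ⟩ := χ.2
    intro x hx
    haveI := hirr
    have hn : (χ : ↥M24 → ℂ) 1 = (n : ℂ) := by
      rw [← hρ, Representation.char_one]
      simp
    have hdn : charDegree (χ : ↥M24 → ℂ) = n := by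
      have := charDegree_irr χ
      rw [hn] at this
      exact_mod_cast this
    have hdeg : 2 ^ 10 ∣ Module.finrank ℂ (Fin n → ℂ) := by
      rw [Module.finrank_fin_fun, ← hdn]
      have hd0 : charDegree (χ : ↥M24 → ℂ) ≠ 0 := (charDegree_pos χ).ne'
      rw [Nat.prime_two.pow_dvd_iff_le_factorization hd0, hd]
    have h := char_eq_zero_of_defect_zero ρ 2 10 Nat.prime_two
      (by rw [hcard]; norm_num) hdeg x hx
    rw [hρ] at h
    exact h
  letI : Fintype D24.P27 := Fintype.ofFinite _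
  exact no_defect_zero24 hcard χ hd hvan D24.rA D24.rB D24.rA_order D24.rB_order D24.rA_real
    D24.rB_real D24.rA_rB_not_conj D24.DA D24.card_DA D24.DA_comm D24.DB D24.card_DB D24.DB_comm
    D24.P27 D24.card_P27 (fun F hF => D24.sum_P27 F hF)
    (by rw [D24.card_centralizer_rA]) (by rw [D24.card_centralizer_rB])

theorem sameBlock_M24 (M : Ideal AlgInt) (hM : IsPModular 2 M) (χ ψ : IrrCharacter ↥M24) :
    SameBlock M (χ : ↥M24 → ℂ) (ψ : ↥M24 → ℂ) := by
  haveI hPr := isPrime_of_isPModular hM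
  have h1 : SameBlock M (fun _ : ↥M24 => (1 : ℂ)) (χ : ↥M24 → ℂ) :=
    mem_principalBlock_M24 M hM χ
  have h2 : SameBlock M (fun _ : ↥M24 => (1 : ℂ)) (ψ : ↥M24 → ℂ) :=
    mem_principalBlock_M24 M hM ψ
  exact sameBlock_trans (M := M) (sameBlock_symm h1) h2

end Cfsg.Agent.Lib.H3.OneBlk
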